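import Cfsg.Agent.Lib.Fi24.Out.Defs

/-! Checks at the points, part 0. -/

set_option autoImplicit false
set_option maxRecDepth 20000
set_option Elab.async false

namespace Cfsg.Agent.Lib.Fi24.Out

open Cfsg.Agent.Lib.CosetEnum (allBelow allFrom)

theorem pt0_part0 : allFrom 0 1080 outPt = true := by decide +kernel

theorem pt0_part1 : allFrom 1080 1080 outPt = true := by decide +kernel

theorem pt0_part2 : allFrom 2160 1080 outPt = true := by decide +kernel

theorem pt0_part3 : allFrom 3240 1080 outPt = true := by decide +kernel

theorem pt0_part4 : allFrom 4320 1080 outPt = true := by decide +kernel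

theorem pt0_part5 : allFrom 5400 1080 outPt = true := by decide +kernel

theorem pt0_part6 : allFrom 6480 1080 outPt = true := by decide +kernel

theorem pt0_part7 : allFrom 7560 1080 outPt = true := by decide +kernel

theorem pt0_part8 : allFrom 8640 1080 outPt = true := by decide +kernel

theorem pt0_part9 : allFrom 9720 1080 outPt = true := by decide +kernel

theorem pt0_part10 : allFrom 10800 1080 outPt = true := by decide +kernel

theorem pt0_part11 : allFrom 11880 1080 outPt = true := by decide +kernel

theorem pt0_part12 : allFrom 12960 1080 outPt = true := by decide +kernel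

theorem pt0_part13 : allFrom 14040 1080 outPt = true := by decide +kernel

theorem pt0_part14 : allFrom 15120 1080 outPt = true := by decide +kernel

theorem pt0_part15 : allFrom 16200 1080 outPt = true := by decide +kernel

theorem pt0_part16 : allFrom 17280 1080 outPt = true := by decide +kernel

theorem pt0_part17 : allFrom 18360 1080 outPt = true := by decide +kernel

theorem pt0_part18 : allFrom 19440 1080 outPt = true := by decide +kernel

theorem pt0_part19 : allFrom 20520 1080 outPt = true := by decide +kernel

theorem pt0_part20 : allFrom 21600 1080 outPt = true := by decide +kernel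

theorem pt0_part21 : allFrom 22680 1080 outPt = true := by decide +kernel

theorem pt0_part22 : allFrom 23760 1080 outPt = true := by decide +kernel

theorem pt0_part23 : allFrom 24840 1080 outPt = true := by decide +kernel

theorem pt0_part24 : allFrom 25920 1080 outPt = true := by decide +kernel

theorem pt0_part25 : allFrom 27000 1080 outPt = true := by decide +kernel

theorem pt0_part26 : allFrom 28080 1080 outPt = true := by decide +kernel

theorem pt0_part27 : allFrom 29160 1080 outPt = true := by decide +kernel

theorem pt0_part28 : allFrom 30240 1080 outPt = true := by decide +kernel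

theorem pt0_part29 : allFrom 31320 1080 outPt = true := by decide +kernel

theorem pt0_part30 : allFrom 32400 1080 outPt = true := by decide +kernel

theorem pt0_part31 : allFrom 33480 1080 outPt = true := by decide +kernel

theorem pt0_part32 : allFrom 34560 1080 outPt = true := by decide +kernel

theorem pt0_part33 : allFrom 35640 1080 outPt = true := by decide +kernel

theorem pt0_part34 : allFrom 36720 1080 outPt = true := by decide +kernel

theorem pt0_part35 : allFrom 37800 1080 outPt = true := by decide +kernel

theorem pt0_part36 : allFrom 38880 1080 outPt = true := by decide +kernel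

theorem pt0_part37 : allFrom 39960 1080 outPt = true := by decide +kernel

theorem pt0_part38 : allFrom 41040 1080 outPt = true := by decide +kernel

theorem pt0_part39 : allFrom 42120 1080 outPt = true := by decide +kernel

theorem pt0_part40 : allFrom 43200 1080 outPt = true := by decide +kernel

theorem pt0_part41 : allFrom 44280 1080 outPt = true := by decide +kernel

theorem pt0_part42 : allFrom 45360 1080 outPt = true := by decide +kernel

theorem pt0_part43 : allFrom 46440 1080 outPt = true := by decide +kernel

theorem pt0_part44 : allFrom 47520 1080 outPt = true := by decide +kernel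

theorem pt0_part45 : allFrom 48600 1080 outPt = true := by decide +kernel

theorem pt0_part46 : allFrom 49680 1080 outPt = true := by decide +kernel

theorem pt0_part47 : allFrom 50760 396 outPt = true := by decide +kernel

theorem pt0_range : ∀ i, 0 ≤ i → i < 51156 → outPt i = true := by
  intro i h1 h2
  by_cases h : i < 1080
  · exact CosetEnum.allFrom_iff.1 pt0_part0 i (by omega) (by omega)
  by_cases h : i < 2160
  · exact CosetEnum.allFrom_iff.1 pt0_part1 i (by omega) (by omega)
  by_cases h : i < 3240
  · exact CosetEnum.allFrom_iff.1 pt0_part2 i (by omega) (by omega)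
  by_cases h : i < 4320
  · exact CosetEnum.allFrom_iff.1 pt0_part3 i (by omega) (by omega)
  by_cases h : i < 5400
  · exact CosetEnum.allFrom_iff.1 pt0_part4 i (by omega) (by omega)
  by_cases h : i < 6480
  · exact CosetEnum.allFrom_iff.1 pt0_part5 i (by omega) (by omega)
  by_cases h : i < 7560
  · exact CosetEnum.allFrom_iff.1 pt0_part6 i (by omega) (by omega)
  by_cases h : i < 8640
  · exact CosetEnum.allFrom_iff.1 pt0_part7 i (by omega) (by omega)
  by_cases h : i < 9720
  · exact CosetEnum.allFrom_iff.1 pt0_part8 i (by omega) (by omega)
  by_cases h : i < 10800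
  · exact CosetEnum.allFrom_iff.1 pt0_part9 i (by omega) (by omega)
  by_cases h : i < 11880
  · exact CosetEnum.allFrom_iff.1 pt0_part10 i (by omega) (by omega)
  by_cases h : i < 12960
  · exact CosetEnum.allFrom_iff.1 pt0_part11 i (by omega) (by omega)
  by_cases h : i < 14040
  · exact CosetEnum.allFrom_iff.1 pt0_part12 i (by omega) (by omega)
  by_cases h : i < 15120
  · exact CosetEnum.allFrom_iff.1 pt0_part13 i (by omega) (by omega)
  by_cases h : i < 16200
  · exact CosetEnum.allFrom_iff.1 pt0_part14 i (by omega) (by omega)
  by_cases h : i < 17280
  · exact CosetEnum.allFrom_iff.1 pt0_part15 i (by omega) (by omega)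
  by_cases h : i < 18360
  · exact CosetEnum.allFrom_iff.1 pt0_part16 i (by omega) (by omega)
  by_cases h : i < 19440
  · exact CosetEnum.allFrom_iff.1 pt0_part17 i (by omega) (by omega)
  by_cases h : i < 20520
  · exact CosetEnum.allFrom_iff.1 pt0_part18 i (by omega) (by omega)
  by_cases h : i < 21600
  · exact CosetEnum.allFrom_iff.1 pt0_part19 i (by omega) (by omega)
  by_cases h : i < 22680
  · exact CosetEnum.allFrom_iff.1 pt0_part20 i (by omega) (by omega)
  by_cases h : i < 23760
  · exact CosetEnum.allFrom_iff.1 pt0_part21 i (by omega) (by omega)
  by_cases h : i < 24840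
  · exact CosetEnum.allFrom_iff.1 pt0_part22 i (by omega) (by omega)
  by_cases h : i < 25920
  · exact CosetEnum.allFrom_iff.1 pt0_part23 i (by omega) (by omega)
  by_cases h : i < 27000
  · exact CosetEnum.allFrom_iff.1 pt0_part24 i (by omega) (by omega)
  by_cases h : i < 28080
  · exact CosetEnum.allFrom_iff.1 pt0_part25 i (by omega) (by omega)
  by_cases h : i < 29160
  · exact CosetEnum.allFrom_iff.1 pt0_part26 i (by omega) (by omega)
  by_cases h : i < 30240
  · exact CosetEnum.allFrom_iff.1 pt0_part27 i (by omega) (by omega)
  by_cases h : i < 31320
  · exact CosetEnum.allFrom_iff.1 pt0_part28 i (by omega) (by omega)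
  by_cases h : i < 32400
  · exact CosetEnum.allFrom_iff.1 pt0_part29 i (by omega) (by omega)
  by_cases h : i < 33480
  · exact CosetEnum.allFrom_iff.1 pt0_part30 i (by omega) (by omega)
  by_cases h : i < 34560
  · exact CosetEnum.allFrom_iff.1 pt0_part31 i (by omega) (by omega)
  by_cases h : i < 35640
  · exact CosetEnum.allFrom_iff.1 pt0_part32 i (by omega) (by omega)
  by_cases h : i < 36720
  · exact CosetEnum.allFrom_iff.1 pt0_part33 i (by omega) (by omega)
  by_cases h : i < 37800
  · exact CosetEnum.allFrom_iff.1 pt0_part34 i (by omega) (by omega)
  by_cases h : i < 38880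
  · exact CosetEnum.allFrom_iff.1 pt0_part35 i (by omega) (by omega)
  by_cases h : i < 39960
  · exact CosetEnum.allFrom_iff.1 pt0_part36 i (by omega) (by omega)
  by_cases h : i < 41040
  · exact CosetEnum.allFrom_iff.1 pt0_part37 i (by omega) (by omega)
  by_cases h : i < 42120
  · exact CosetEnum.allFrom_iff.1 pt0_part38 i (by omega) (by omega)
  by_cases h : i < 43200
  · exact CosetEnum.allFrom_iff.1 pt0_part39 i (by omega) (by omega)
  by_cases h : i < 44280
  · exact CosetEnum.allFrom_iff.1 pt0_part40 i (by omega) (by omega)
  by_cases h : i < 45360
  · exact CosetEnum.allFrom_iff.1 pt0_part41 i (by omega) (by omega)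
  by_cases h : i < 46440
  · exact CosetEnum.allFrom_iff.1 pt0_part42 i (by omega) (by omega)
  by_cases h : i < 47520
  · exact CosetEnum.allFrom_iff.1 pt0_part43 i (by omega) (by omega)
  by_cases h : i < 48600
  · exact CosetEnum.allFrom_iff.1 pt0_part44 i (by omega) (by omega)
  by_cases h : i < 49680
  · exact CosetEnum.allFrom_iff.1 pt0_part45 i (by omega) (by omega)
  by_cases h : i < 50760
  · exact CosetEnum.allFrom_iff.1 pt0_part46 i (by omega) (by omega)
  exact CosetEnum.allFrom_iff.1 pt0_part47 i (by omega) (by omega)

end Cfsg.Agent.Lib.Fi24.Out
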