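import Cfsg.Agent.Lib.Fi24.Out.Defs

/-! Checks at the points, part 1. -/

set_option autoImplicit false
set_option maxRecDepth 20000
set_option Elab.async false

namespace Cfsg.Agent.Lib.Fi24.Out

open Cfsg.Agent.Lib.CosetEnum (allBelow allFrom)

theorem pt1_part0 : allFrom 51156 1080 outPt = true := by decide +kernel

theorem pt1_part1 : allFrom 52236 1080 outPt = true := by decide +kernel

theorem pt1_part2 : allFrom 53316 1080 outPt = true := by decide +kernel

theorem pt1_part3 : allFrom 54396 1080 outPt = true := by decide +kernel

theorem pt1_part4 : allFrom 55476 1080 outPt = true := by decide +kernel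

theorem pt1_part5 : allFrom 56556 1080 outPt = true := by decide +kernel

theorem pt1_part6 : allFrom 57636 1080 outPt = true := by decide +kernel

theorem pt1_part7 : allFrom 58716 1080 outPt = true := by decide +kernel

theorem pt1_part8 : allFrom 59796 1080 outPt = true := by decide +kernel

theorem pt1_part9 : allFrom 60876 1080 outPt = true := by decide +kernel

theorem pt1_part10 : allFrom 61956 1080 outPt = true := by decide +kernel

theorem pt1_part11 : allFrom 63036 1080 outPt = true := by decide +kernel

theorem pt1_part12 : allFrom 64116 1080 outPt = true := by decide +kernel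

theorem pt1_part13 : allFrom 65196 1080 outPt = true := by decide +kernel

theorem pt1_part14 : allFrom 66276 1080 outPt = true := by decide +kernel

theorem pt1_part15 : allFrom 67356 1080 outPt = true := by decide +kernel

theorem pt1_part16 : allFrom 68436 1080 outPt = true := by decide +kernel

theorem pt1_part17 : allFrom 69516 1080 outPt = true := by decide +kernel

theorem pt1_part18 : allFrom 70596 1080 outPt = true := by decide +kernel

theorem pt1_part19 : allFrom 71676 1080 outPt = true := by decide +kernel

theorem pt1_part20 : allFrom 72756 1080 outPt = true := by decide +kernel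

theorem pt1_part21 : allFrom 73836 1080 outPt = true := by decide +kernel

theorem pt1_part22 : allFrom 74916 1080 outPt = true := by decide +kernel

theorem pt1_part23 : allFrom 75996 1080 outPt = true := by decide +kernel

theorem pt1_part24 : allFrom 77076 1080 outPt = true := by decide +kernel

theorem pt1_part25 : allFrom 78156 1080 outPt = true := by decide +kernel

theorem pt1_part26 : allFrom 79236 1080 outPt = true := by decide +kernel

theorem pt1_part27 : allFrom 80316 1080 outPt = true := by decide +kernel

theorem pt1_part28 : allFrom 81396 1080 outPt = true := by decide +kernel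

theorem pt1_part29 : allFrom 82476 1080 outPt = true := by decide +kernel

theorem pt1_part30 : allFrom 83556 1080 outPt = true := by decide +kernel

theorem pt1_part31 : allFrom 84636 1080 outPt = true := by decide +kernel

theorem pt1_part32 : allFrom 85716 1080 outPt = true := by decide +kernel

theorem pt1_part33 : allFrom 86796 1080 outPt = true := by decide +kernel

theorem pt1_part34 : allFrom 87876 1080 outPt = true := by decide +kernel

theorem pt1_part35 : allFrom 88956 1080 outPt = true := by decide +kernel

theorem pt1_part36 : allFrom 90036 1080 outPt = true := by decide +kernel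

theorem pt1_part37 : allFrom 91116 1080 outPt = true := by decide +kernel

theorem pt1_part38 : allFrom 92196 1080 outPt = true := by decide +kernel

theorem pt1_part39 : allFrom 93276 1080 outPt = true := by decide +kernel

theorem pt1_part40 : allFrom 94356 1080 outPt = true := by decide +kernel

theorem pt1_part41 : allFrom 95436 1080 outPt = true := by decide +kernel

theorem pt1_part42 : allFrom 96516 1080 outPt = true := by decide +kernel

theorem pt1_part43 : allFrom 97596 1080 outPt = true := by decide +kernel

theorem pt1_part44 : allFrom 98676 1080 outPt = true := by decide +kernel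

theorem pt1_part45 : allFrom 99756 1080 outPt = true := by decide +kernel

theorem pt1_part46 : allFrom 100836 1080 outPt = true := by decide +kernel

theorem pt1_part47 : allFrom 101916 396 outPt = true := by decide +kernel

theorem pt1_range : ∀ i, 51156 ≤ i → i < 102312 → outPt i = true := by
  intro i h1 h2
  by_cases h : i < 52236
  · exact CosetEnum.allFrom_iff.1 pt1_part0 i (by omega) (by omega)
  by_cases h : i < 53316
  · exact CosetEnum.allFrom_iff.1 pt1_part1 i (by omega) (by omega)
  by_cases h : i < 54396
  · exact CosetEnum.allFrom_iff.1 pt1_part2 i (by omega) (by omega)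
  by_cases h : i < 55476
  · exact CosetEnum.allFrom_iff.1 pt1_part3 i (by omega) (by omega)
  by_cases h : i < 56556
  · exact CosetEnum.allFrom_iff.1 pt1_part4 i (by omega) (by omega)
  by_cases h : i < 57636
  · exact CosetEnum.allFrom_iff.1 pt1_part5 i (by omega) (by omega)
  by_cases h : i < 58716
  · exact CosetEnum.allFrom_iff.1 pt1_part6 i (by omega) (by omega)
  by_cases h : i < 59796
  · exact CosetEnum.allFrom_iff.1 pt1_part7 i (by omega) (by omega)
  by_cases h : i < 60876
  · exact CosetEnum.allFrom_iff.1 pt1_part8 i (by omega) (by omega)
  by_cases h : i < 61956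
  · exact CosetEnum.allFrom_iff.1 pt1_part9 i (by omega) (by omega)
  by_cases h : i < 63036
  · exact CosetEnum.allFrom_iff.1 pt1_part10 i (by omega) (by omega)
  by_cases h : i < 64116
  · exact CosetEnum.allFrom_iff.1 pt1_part11 i (by omega) (by omega)
  by_cases h : i < 65196
  · exact CosetEnum.allFrom_iff.1 pt1_part12 i (by omega) (by omega)
  by_cases h : i < 66276
  · exact CosetEnum.allFrom_iff.1 pt1_part13 i (by omega) (by omega)
  by_cases h : i < 67356
  · exact CosetEnum.allFrom_iff.1 pt1_part14 i (by omega) (by omega)
  by_cases h : i < 68436
  · exact CosetEnum.allFrom_iff.1 pt1_part15 i (by omega) (by omega)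
  by_cases h : i < 69516
  · exact CosetEnum.allFrom_iff.1 pt1_part16 i (by omega) (by omega)
  by_cases h : i < 70596
  · exact CosetEnum.allFrom_iff.1 pt1_part17 i (by omega) (by omega)
  by_cases h : i < 71676
  · exact CosetEnum.allFrom_iff.1 pt1_part18 i (by omega) (by omega)
  by_cases h : i < 72756
  · exact CosetEnum.allFrom_iff.1 pt1_part19 i (by omega) (by omega)
  by_cases h : i < 73836
  · exact CosetEnum.allFrom_iff.1 pt1_part20 i (by omega) (by omega)
  by_cases h : i < 74916
  · exact CosetEnum.allFrom_iff.1 pt1_part21 i (by omega) (by omega)
  by_cases h : i < 75996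
  · exact CosetEnum.allFrom_iff.1 pt1_part22 i (by omega) (by omega)
  by_cases h : i < 77076
  · exact CosetEnum.allFrom_iff.1 pt1_part23 i (by omega) (by omega)
  by_cases h : i < 78156
  · exact CosetEnum.allFrom_iff.1 pt1_part24 i (by omega) (by omega)
  by_cases h : i < 79236
  · exact CosetEnum.allFrom_iff.1 pt1_part25 i (by omega) (by omega)
  by_cases h : i < 80316
  · exact CosetEnum.allFrom_iff.1 pt1_part26 i (by omega) (by omega)
  by_cases h : i < 81396
  · exact CosetEnum.allFrom_iff.1 pt1_part27 i (by omega) (by omega)
  by_cases h : i < 82476
  · exact CosetEnum.allFrom_iff.1 pt1_part28 i (by omega) (by omega)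
  by_cases h : i < 83556
  · exact CosetEnum.allFrom_iff.1 pt1_part29 i (by omega) (by omega)
  by_cases h : i < 84636
  · exact CosetEnum.allFrom_iff.1 pt1_part30 i (by omega) (by omega)
  by_cases h : i < 85716
  · exact CosetEnum.allFrom_iff.1 pt1_part31 i (by omega) (by omega)
  by_cases h : i < 86796
  · exact CosetEnum.allFrom_iff.1 pt1_part32 i (by omega) (by omega)
  by_cases h : i < 87876
  · exact CosetEnum.allFrom_iff.1 pt1_part33 i (by omega) (by omega)
  by_cases h : i < 88956
  · exact CosetEnum.allFrom_iff.1 pt1_part34 i (by omega) (by omega)
  by_cases h : i < 90036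
  · exact CosetEnum.allFrom_iff.1 pt1_part35 i (by omega) (by omega)
  by_cases h : i < 91116
  · exact CosetEnum.allFrom_iff.1 pt1_part36 i (by omega) (by omega)
  by_cases h : i < 92196
  · exact CosetEnum.allFrom_iff.1 pt1_part37 i (by omega) (by omega)
  by_cases h : i < 93276
  · exact CosetEnum.allFrom_iff.1 pt1_part38 i (by omega) (by omega)
  by_cases h : i < 94356
  · exact CosetEnum.allFrom_iff.1 pt1_part39 i (by omega) (by omega)
  by_cases h : i < 95436
  · exact CosetEnum.allFrom_iff.1 pt1_part40 i (by omega) (by omega)
  by_cases h : i < 96516
  · exact CosetEnum.allFrom_iff.1 pt1_part41 i (by omega) (by omega)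
  by_cases h : i < 97596
  · exact CosetEnum.allFrom_iff.1 pt1_part42 i (by omega) (by omega)
  by_cases h : i < 98676
  · exact CosetEnum.allFrom_iff.1 pt1_part43 i (by omega) (by omega)
  by_cases h : i < 99756
  · exact CosetEnum.allFrom_iff.1 pt1_part44 i (by omega) (by omega)
  by_cases h : i < 100836
  · exact CosetEnum.allFrom_iff.1 pt1_part45 i (by omega) (by omega)
  by_cases h : i < 101916
  · exact CosetEnum.allFrom_iff.1 pt1_part46 i (by omega) (by omega)
  exact CosetEnum.allFrom_iff.1 pt1_part47 i (by omega) (by omega)

end Cfsg.Agent.Lib.Fi24.Out
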