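import Cfsg.Agent.Lib.Fi24.Out.Defs

/-! Checks at the points, part 2. -/

set_option autoImplicit false
set_option maxRecDepth 20000
set_option Elab.async false

namespace Cfsg.Agent.Lib.Fi24.Out

open Cfsg.Agent.Lib.CosetEnum (allBelow allFrom)

theorem pt2_part0 : allFrom 102312 1080 outPt = true := by decide +kernel

theorem pt2_part1 : allFrom 103392 1080 outPt = true := by decide +kernel

theorem pt2_part2 : allFrom 104472 1080 outPt = true := by decide +kernel

theorem pt2_part3 : allFrom 105552 1080 outPt = true := by decide +kernel

theorem pt2_part4 : allFrom 106632 1080 outPt = true := by decide +kernel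

theorem pt2_part5 : allFrom 107712 1080 outPt = true := by decide +kernel

theorem pt2_part6 : allFrom 108792 1080 outPt = true := by decide +kernel

theorem pt2_part7 : allFrom 109872 1080 outPt = true := by decide +kernel

theorem pt2_part8 : allFrom 110952 1080 outPt = true := by decide +kernel

theorem pt2_part9 : allFrom 112032 1080 outPt = true := by decide +kernel

theorem pt2_part10 : allFrom 113112 1080 outPt = true := by decide +kernel

theorem pt2_part11 : allFrom 114192 1080 outPt = true := by decide +kernel

theorem pt2_part12 : allFrom 115272 1080 outPt = true := by decide +kernel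

theorem pt2_part13 : allFrom 116352 1080 outPt = true := by decide +kernel

theorem pt2_part14 : allFrom 117432 1080 outPt = true := by decide +kernel

theorem pt2_part15 : allFrom 118512 1080 outPt = true := by decide +kernel

theorem pt2_part16 : allFrom 119592 1080 outPt = true := by decide +kernel

theorem pt2_part17 : allFrom 120672 1080 outPt = true := by decide +kernel

theorem pt2_part18 : allFrom 121752 1080 outPt = true := by decide +kernel

theorem pt2_part19 : allFrom 122832 1080 outPt = true := by decide +kernel

theorem pt2_part20 : allFrom 123912 1080 outPt = true := by decide +kernel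

theorem pt2_part21 : allFrom 124992 1080 outPt = true := by decide +kernel

theorem pt2_part22 : allFrom 126072 1080 outPt = true := by decide +kernel

theorem pt2_part23 : allFrom 127152 1080 outPt = true := by decide +kernel

theorem pt2_part24 : allFrom 128232 1080 outPt = true := by decide +kernel

theorem pt2_part25 : allFrom 129312 1080 outPt = true := by decide +kernel

theorem pt2_part26 : allFrom 130392 1080 outPt = true := by decide +kernel

theorem pt2_part27 : allFrom 131472 1080 outPt = true := by decide +kernel

theorem pt2_part28 : allFrom 132552 1080 outPt = true := by decide +kernel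

theorem pt2_part29 : allFrom 133632 1080 outPt = true := by decide +kernel

theorem pt2_part30 : allFrom 134712 1080 outPt = true := by decide +kernel

theorem pt2_part31 : allFrom 135792 1080 outPt = true := by decide +kernel

theorem pt2_part32 : allFrom 136872 1080 outPt = true := by decide +kernel

theorem pt2_part33 : allFrom 137952 1080 outPt = true := by decide +kernel

theorem pt2_part34 : allFrom 139032 1080 outPt = true := by decide +kernel

theorem pt2_part35 : allFrom 140112 1080 outPt = true := by decide +kernel

theorem pt2_part36 : allFrom 141192 1080 outPt = true := by decide +kernel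

theorem pt2_part37 : allFrom 142272 1080 outPt = true := by decide +kernel

theorem pt2_part38 : allFrom 143352 1080 outPt = true := by decide +kernel

theorem pt2_part39 : allFrom 144432 1080 outPt = true := by decide +kernel

theorem pt2_part40 : allFrom 145512 1080 outPt = true := by decide +kernel

theorem pt2_part41 : allFrom 146592 1080 outPt = true := by decide +kernel

theorem pt2_part42 : allFrom 147672 1080 outPt = true := by decide +kernel

theorem pt2_part43 : allFrom 148752 1080 outPt = true := by decide +kernel

theorem pt2_part44 : allFrom 149832 1080 outPt = true := by decide +kernel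

theorem pt2_part45 : allFrom 150912 1080 outPt = true := by decide +kernel

theorem pt2_part46 : allFrom 151992 1080 outPt = true := by decide +kernel

theorem pt2_part47 : allFrom 153072 396 outPt = true := by decide +kernel

theorem pt2_range : ∀ i, 102312 ≤ i → i < 153468 → outPt i = true := by
  intro i h1 h2
  by_cases h : i < 103392
  · exact CosetEnum.allFrom_iff.1 pt2_part0 i (by omega) (by omega)
  by_cases h : i < 104472
  · exact CosetEnum.allFrom_iff.1 pt2_part1 i (by omega) (by omega)
  by_cases h : i < 105552
  · exact CosetEnum.allFrom_iff.1 pt2_part2 i (by omega) (by omega)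
  by_cases h : i < 106632
  · exact CosetEnum.allFrom_iff.1 pt2_part3 i (by omega) (by omega)
  by_cases h : i < 107712
  · exact CosetEnum.allFrom_iff.1 pt2_part4 i (by omega) (by omega)
  by_cases h : i < 108792
  · exact CosetEnum.allFrom_iff.1 pt2_part5 i (by omega) (by omega)
  by_cases h : i < 109872
  · exact CosetEnum.allFrom_iff.1 pt2_part6 i (by omega) (by omega)
  by_cases h : i < 110952
  · exact CosetEnum.allFrom_iff.1 pt2_part7 i (by omega) (by omega)
  by_cases h : i < 112032
  · exact CosetEnum.allFrom_iff.1 pt2_part8 i (by omega) (by omega)
  by_cases h : i < 113112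
  · exact CosetEnum.allFrom_iff.1 pt2_part9 i (by omega) (by omega)
  by_cases h : i < 114192
  · exact CosetEnum.allFrom_iff.1 pt2_part10 i (by omega) (by omega)
  by_cases h : i < 115272
  · exact CosetEnum.allFrom_iff.1 pt2_part11 i (by omega) (by omega)
  by_cases h : i < 116352
  · exact CosetEnum.allFrom_iff.1 pt2_part12 i (by omega) (by omega)
  by_cases h : i < 117432
  · exact CosetEnum.allFrom_iff.1 pt2_part13 i (by omega) (by omega)
  by_cases h : i < 118512
  · exact CosetEnum.allFrom_iff.1 pt2_part14 i (by omega) (by omega)
  by_cases h : i < 119592
  · exact CosetEnum.allFrom_iff.1 pt2_part15 i (by omega) (by omega)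
  by_cases h : i < 120672
  · exact CosetEnum.allFrom_iff.1 pt2_part16 i (by omega) (by omega)
  by_cases h : i < 121752
  · exact CosetEnum.allFrom_iff.1 pt2_part17 i (by omega) (by omega)
  by_cases h : i < 122832
  · exact CosetEnum.allFrom_iff.1 pt2_part18 i (by omega) (by omega)
  by_cases h : i < 123912
  · exact CosetEnum.allFrom_iff.1 pt2_part19 i (by omega) (by omega)
  by_cases h : i < 124992
  · exact CosetEnum.allFrom_iff.1 pt2_part20 i (by omega) (by omega)
  by_cases h : i < 126072
  · exact CosetEnum.allFrom_iff.1 pt2_part21 i (by omega) (by omega)
  by_cases h : i < 127152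
  · exact CosetEnum.allFrom_iff.1 pt2_part22 i (by omega) (by omega)
  by_cases h : i < 128232
  · exact CosetEnum.allFrom_iff.1 pt2_part23 i (by omega) (by omega)
  by_cases h : i < 129312
  · exact CosetEnum.allFrom_iff.1 pt2_part24 i (by omega) (by omega)
  by_cases h : i < 130392
  · exact CosetEnum.allFrom_iff.1 pt2_part25 i (by omega) (by omega)
  by_cases h : i < 131472
  · exact CosetEnum.allFrom_iff.1 pt2_part26 i (by omega) (by omega)
  by_cases h : i < 132552
  · exact CosetEnum.allFrom_iff.1 pt2_part27 i (by omega) (by omega)
  by_cases h : i < 133632
  · exact CosetEnum.allFrom_iff.1 pt2_part28 i (by omega) (by omega)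
  by_cases h : i < 134712
  · exact CosetEnum.allFrom_iff.1 pt2_part29 i (by omega) (by omega)
  by_cases h : i < 135792
  · exact CosetEnum.allFrom_iff.1 pt2_part30 i (by omega) (by omega)
  by_cases h : i < 136872
  · exact CosetEnum.allFrom_iff.1 pt2_part31 i (by omega) (by omega)
  by_cases h : i < 137952
  · exact CosetEnum.allFrom_iff.1 pt2_part32 i (by omega) (by omega)
  by_cases h : i < 139032
  · exact CosetEnum.allFrom_iff.1 pt2_part33 i (by omega) (by omega)
  by_cases h : i < 140112
  · exact CosetEnum.allFrom_iff.1 pt2_part34 i (by omega) (by omega)
  by_cases h : i < 141192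
  · exact CosetEnum.allFrom_iff.1 pt2_part35 i (by omega) (by omega)
  by_cases h : i < 142272
  · exact CosetEnum.allFrom_iff.1 pt2_part36 i (by omega) (by omega)
  by_cases h : i < 143352
  · exact CosetEnum.allFrom_iff.1 pt2_part37 i (by omega) (by omega)
  by_cases h : i < 144432
  · exact CosetEnum.allFrom_iff.1 pt2_part38 i (by omega) (by omega)
  by_cases h : i < 145512
  · exact CosetEnum.allFrom_iff.1 pt2_part39 i (by omega) (by omega)
  by_cases h : i < 146592
  · exact CosetEnum.allFrom_iff.1 pt2_part40 i (by omega) (by omega)
  by_cases h : i < 147672
  · exact CosetEnum.allFrom_iff.1 pt2_part41 i (by omega) (by omega)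
  by_cases h : i < 148752
  · exact CosetEnum.allFrom_iff.1 pt2_part42 i (by omega) (by omega)
  by_cases h : i < 149832
  · exact CosetEnum.allFrom_iff.1 pt2_part43 i (by omega) (by omega)
  by_cases h : i < 150912
  · exact CosetEnum.allFrom_iff.1 pt2_part44 i (by omega) (by omega)
  by_cases h : i < 151992
  · exact CosetEnum.allFrom_iff.1 pt2_part45 i (by omega) (by omega)
  by_cases h : i < 153072
  · exact CosetEnum.allFrom_iff.1 pt2_part46 i (by omega) (by omega)
  exact CosetEnum.allFrom_iff.1 pt2_part47 i (by omega) (by omega)

end Cfsg.Agent.Lib.Fi24.Out
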