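import Cfsg.Agent.Lib.Fi24.Out.Defs

/-! Checks at the points, part 3. -/

set_option autoImplicit false
set_option maxRecDepth 20000
set_option Elab.async false

namespace Cfsg.Agent.Lib.Fi24.Out

open Cfsg.Agent.Lib.CosetEnum (allBelow allFrom)

theorem pt3_part0 : allFrom 153468 1080 outPt = true := by decide +kernel

theorem pt3_part1 : allFrom 154548 1080 outPt = true := by decide +kernel

theorem pt3_part2 : allFrom 155628 1080 outPt = true := by decide +kernel

theorem pt3_part3 : allFrom 156708 1080 outPt = true := by decide +kernel

theorem pt3_part4 : allFrom 157788 1080 outPt = true := by decide +kernel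

theorem pt3_part5 : allFrom 158868 1080 outPt = true := by decide +kernel

theorem pt3_part6 : allFrom 159948 1080 outPt = true := by decide +kernel

theorem pt3_part7 : allFrom 161028 1080 outPt = true := by decide +kernel

theorem pt3_part8 : allFrom 162108 1080 outPt = true := by decide +kernel

theorem pt3_part9 : allFrom 163188 1080 outPt = true := by decide +kernel

theorem pt3_part10 : allFrom 164268 1080 outPt = true := by decide +kernel

theorem pt3_part11 : allFrom 165348 1080 outPt = true := by decide +kernel

theorem pt3_part12 : allFrom 166428 1080 outPt = true := by decide +kernel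

theorem pt3_part13 : allFrom 167508 1080 outPt = true := by decide +kernel

theorem pt3_part14 : allFrom 168588 1080 outPt = true := by decide +kernel

theorem pt3_part15 : allFrom 169668 1080 outPt = true := by decide +kernel

theorem pt3_part16 : allFrom 170748 1080 outPt = true := by decide +kernel

theorem pt3_part17 : allFrom 171828 1080 outPt = true := by decide +kernel

theorem pt3_part18 : allFrom 172908 1080 outPt = true := by decide +kernel

theorem pt3_part19 : allFrom 173988 1080 outPt = true := by decide +kernel

theorem pt3_part20 : allFrom 175068 1080 outPt = true := by decide +kernel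

theorem pt3_part21 : allFrom 176148 1080 outPt = true := by decide +kernel

theorem pt3_part22 : allFrom 177228 1080 outPt = true := by decide +kernel

theorem pt3_part23 : allFrom 178308 1080 outPt = true := by decide +kernel

theorem pt3_part24 : allFrom 179388 1080 outPt = true := by decide +kernel

theorem pt3_part25 : allFrom 180468 1080 outPt = true := by decide +kernel

theorem pt3_part26 : allFrom 181548 1080 outPt = true := by decide +kernel

theorem pt3_part27 : allFrom 182628 1080 outPt = true := by decide +kernel

theorem pt3_part28 : allFrom 183708 1080 outPt = true := by decide +kernel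

theorem pt3_part29 : allFrom 184788 1080 outPt = true := by decide +kernel

theorem pt3_part30 : allFrom 185868 1080 outPt = true := by decide +kernel

theorem pt3_part31 : allFrom 186948 1080 outPt = true := by decide +kernel

theorem pt3_part32 : allFrom 188028 1080 outPt = true := by decide +kernel

theorem pt3_part33 : allFrom 189108 1080 outPt = true := by decide +kernel

theorem pt3_part34 : allFrom 190188 1080 outPt = true := by decide +kernel

theorem pt3_part35 : allFrom 191268 1080 outPt = true := by decide +kernel

theorem pt3_part36 : allFrom 192348 1080 outPt = true := by decide +kernel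

theorem pt3_part37 : allFrom 193428 1080 outPt = true := by decide +kernel

theorem pt3_part38 : allFrom 194508 1080 outPt = true := by decide +kernel

theorem pt3_part39 : allFrom 195588 1080 outPt = true := by decide +kernel

theorem pt3_part40 : allFrom 196668 1080 outPt = true := by decide +kernel

theorem pt3_part41 : allFrom 197748 1080 outPt = true := by decide +kernel

theorem pt3_part42 : allFrom 198828 1080 outPt = true := by decide +kernel

theorem pt3_part43 : allFrom 199908 1080 outPt = true := by decide +kernel

theorem pt3_part44 : allFrom 200988 1080 outPt = true := by decide +kernel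

theorem pt3_part45 : allFrom 202068 1080 outPt = true := by decide +kernel

theorem pt3_part46 : allFrom 203148 1080 outPt = true := by decide +kernel

theorem pt3_part47 : allFrom 204228 396 outPt = true := by decide +kernel

theorem pt3_range : ∀ i, 153468 ≤ i → i < 204624 → outPt i = true := by
  intro i h1 h2
  by_cases h : i < 154548
  · exact CosetEnum.allFrom_iff.1 pt3_part0 i (by omega) (by omega)
  by_cases h : i < 155628
  · exact CosetEnum.allFrom_iff.1 pt3_part1 i (by omega) (by omega)
  by_cases h : i < 156708
  · exact CosetEnum.allFrom_iff.1 pt3_part2 i (by omega) (by omega)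
  by_cases h : i < 157788
  · exact CosetEnum.allFrom_iff.1 pt3_part3 i (by omega) (by omega)
  by_cases h : i < 158868
  · exact CosetEnum.allFrom_iff.1 pt3_part4 i (by omega) (by omega)
  by_cases h : i < 159948
  · exact CosetEnum.allFrom_iff.1 pt3_part5 i (by omega) (by omega)
  by_cases h : i < 161028
  · exact CosetEnum.allFrom_iff.1 pt3_part6 i (by omega) (by omega)
  by_cases h : i < 162108
  · exact CosetEnum.allFrom_iff.1 pt3_part7 i (by omega) (by omega)
  by_cases h : i < 163188
  · exact CosetEnum.allFrom_iff.1 pt3_part8 i (by omega) (by omega)
  by_cases h : i < 164268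
  · exact CosetEnum.allFrom_iff.1 pt3_part9 i (by omega) (by omega)
  by_cases h : i < 165348
  · exact CosetEnum.allFrom_iff.1 pt3_part10 i (by omega) (by omega)
  by_cases h : i < 166428
  · exact CosetEnum.allFrom_iff.1 pt3_part11 i (by omega) (by omega)
  by_cases h : i < 167508
  · exact CosetEnum.allFrom_iff.1 pt3_part12 i (by omega) (by omega)
  by_cases h : i < 168588
  · exact CosetEnum.allFrom_iff.1 pt3_part13 i (by omega) (by omega)
  by_cases h : i < 169668
  · exact CosetEnum.allFrom_iff.1 pt3_part14 i (by omega) (by omega)
  by_cases h : i < 170748
  · exact CosetEnum.allFrom_iff.1 pt3_part15 i (by omega) (by omega)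
  by_cases h : i < 171828
  · exact CosetEnum.allFrom_iff.1 pt3_part16 i (by omega) (by omega)
  by_cases h : i < 172908
  · exact CosetEnum.allFrom_iff.1 pt3_part17 i (by omega) (by omega)
  by_cases h : i < 173988
  · exact CosetEnum.allFrom_iff.1 pt3_part18 i (by omega) (by omega)
  by_cases h : i < 175068
  · exact CosetEnum.allFrom_iff.1 pt3_part19 i (by omega) (by omega)
  by_cases h : i < 176148
  · exact CosetEnum.allFrom_iff.1 pt3_part20 i (by omega) (by omega)
  by_cases h : i < 177228
  · exact CosetEnum.allFrom_iff.1 pt3_part21 i (by omega) (by omega)
  by_cases h : i < 178308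
  · exact CosetEnum.allFrom_iff.1 pt3_part22 i (by omega) (by omega)
  by_cases h : i < 179388
  · exact CosetEnum.allFrom_iff.1 pt3_part23 i (by omega) (by omega)
  by_cases h : i < 180468
  · exact CosetEnum.allFrom_iff.1 pt3_part24 i (by omega) (by omega)
  by_cases h : i < 181548
  · exact CosetEnum.allFrom_iff.1 pt3_part25 i (by omega) (by omega)
  by_cases h : i < 182628
  · exact CosetEnum.allFrom_iff.1 pt3_part26 i (by omega) (by omega)
  by_cases h : i < 183708
  · exact CosetEnum.allFrom_iff.1 pt3_part27 i (by omega) (by omega)
  by_cases h : i < 184788
  · exact CosetEnum.allFrom_iff.1 pt3_part28 i (by omega) (by omega)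
  by_cases h : i < 185868
  · exact CosetEnum.allFrom_iff.1 pt3_part29 i (by omega) (by omega)
  by_cases h : i < 186948
  · exact CosetEnum.allFrom_iff.1 pt3_part30 i (by omega) (by omega)
  by_cases h : i < 188028
  · exact CosetEnum.allFrom_iff.1 pt3_part31 i (by omega) (by omega)
  by_cases h : i < 189108
  · exact CosetEnum.allFrom_iff.1 pt3_part32 i (by omega) (by omega)
  by_cases h : i < 190188
  · exact CosetEnum.allFrom_iff.1 pt3_part33 i (by omega) (by omega)
  by_cases h : i < 191268
  · exact CosetEnum.allFrom_iff.1 pt3_part34 i (by omega) (by omega)
  by_cases h : i < 192348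
  · exact CosetEnum.allFrom_iff.1 pt3_part35 i (by omega) (by omega)
  by_cases h : i < 193428
  · exact CosetEnum.allFrom_iff.1 pt3_part36 i (by omega) (by omega)
  by_cases h : i < 194508
  · exact CosetEnum.allFrom_iff.1 pt3_part37 i (by omega) (by omega)
  by_cases h : i < 195588
  · exact CosetEnum.allFrom_iff.1 pt3_part38 i (by omega) (by omega)
  by_cases h : i < 196668
  · exact CosetEnum.allFrom_iff.1 pt3_part39 i (by omega) (by omega)
  by_cases h : i < 197748
  · exact CosetEnum.allFrom_iff.1 pt3_part40 i (by omega) (by omega)
  by_cases h : i < 198828
  · exact CosetEnum.allFrom_iff.1 pt3_part41 i (by omega) (by omega)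
  by_cases h : i < 199908
  · exact CosetEnum.allFrom_iff.1 pt3_part42 i (by omega) (by omega)
  by_cases h : i < 200988
  · exact CosetEnum.allFrom_iff.1 pt3_part43 i (by omega) (by omega)
  by_cases h : i < 202068
  · exact CosetEnum.allFrom_iff.1 pt3_part44 i (by omega) (by omega)
  by_cases h : i < 203148
  · exact CosetEnum.allFrom_iff.1 pt3_part45 i (by omega) (by omega)
  by_cases h : i < 204228
  · exact CosetEnum.allFrom_iff.1 pt3_part46 i (by omega) (by omega)
  exact CosetEnum.allFrom_iff.1 pt3_part47 i (by omega) (by omega)

end Cfsg.Agent.Lib.Fi24.Out
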