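import Cfsg.Agent.Lib.Fi24.Out.Defs

/-! Checks at the points, part 4. -/

set_option autoImplicit false
set_option maxRecDepth 20000
set_option Elab.async false

namespace Cfsg.Agent.Lib.Fi24.Out

open Cfsg.Agent.Lib.CosetEnum (allBelow allFrom)

theorem pt4_part0 : allFrom 204624 1080 outPt = true := by decide +kernel

theorem pt4_part1 : allFrom 205704 1080 outPt = true := by decide +kernel

theorem pt4_part2 : allFrom 206784 1080 outPt = true := by decide +kernel

theorem pt4_part3 : allFrom 207864 1080 outPt = true := by decide +kernel

theorem pt4_part4 : allFrom 208944 1080 outPt = true := by decide +kernel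

theorem pt4_part5 : allFrom 210024 1080 outPt = true := by decide +kernel

theorem pt4_part6 : allFrom 211104 1080 outPt = true := by decide +kernel

theorem pt4_part7 : allFrom 212184 1080 outPt = true := by decide +kernel

theorem pt4_part8 : allFrom 213264 1080 outPt = true := by decide +kernel

theorem pt4_part9 : allFrom 214344 1080 outPt = true := by decide +kernel

theorem pt4_part10 : allFrom 215424 1080 outPt = true := by decide +kernel

theorem pt4_part11 : allFrom 216504 1080 outPt = true := by decide +kernel

theorem pt4_part12 : allFrom 217584 1080 outPt = true := by decide +kernel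

theorem pt4_part13 : allFrom 218664 1080 outPt = true := by decide +kernel

theorem pt4_part14 : allFrom 219744 1080 outPt = true := by decide +kernel

theorem pt4_part15 : allFrom 220824 1080 outPt = true := by decide +kernel

theorem pt4_part16 : allFrom 221904 1080 outPt = true := by decide +kernel

theorem pt4_part17 : allFrom 222984 1080 outPt = true := by decide +kernel

theorem pt4_part18 : allFrom 224064 1080 outPt = true := by decide +kernel

theorem pt4_part19 : allFrom 225144 1080 outPt = true := by decide +kernel

theorem pt4_part20 : allFrom 226224 1080 outPt = true := by decide +kernel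

theorem pt4_part21 : allFrom 227304 1080 outPt = true := by decide +kernel

theorem pt4_part22 : allFrom 228384 1080 outPt = true := by decide +kernel

theorem pt4_part23 : allFrom 229464 1080 outPt = true := by decide +kernel

theorem pt4_part24 : allFrom 230544 1080 outPt = true := by decide +kernel

theorem pt4_part25 : allFrom 231624 1080 outPt = true := by decide +kernel

theorem pt4_part26 : allFrom 232704 1080 outPt = true := by decide +kernel

theorem pt4_part27 : allFrom 233784 1080 outPt = true := by decide +kernel

theorem pt4_part28 : allFrom 234864 1080 outPt = true := by decide +kernel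

theorem pt4_part29 : allFrom 235944 1080 outPt = true := by decide +kernel

theorem pt4_part30 : allFrom 237024 1080 outPt = true := by decide +kernel

theorem pt4_part31 : allFrom 238104 1080 outPt = true := by decide +kernel

theorem pt4_part32 : allFrom 239184 1080 outPt = true := by decide +kernel

theorem pt4_part33 : allFrom 240264 1080 outPt = true := by decide +kernel

theorem pt4_part34 : allFrom 241344 1080 outPt = true := by decide +kernel

theorem pt4_part35 : allFrom 242424 1080 outPt = true := by decide +kernel

theorem pt4_part36 : allFrom 243504 1080 outPt = true := by decide +kernel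

theorem pt4_part37 : allFrom 244584 1080 outPt = true := by decide +kernel

theorem pt4_part38 : allFrom 245664 1080 outPt = true := by decide +kernel

theorem pt4_part39 : allFrom 246744 1080 outPt = true := by decide +kernel

theorem pt4_part40 : allFrom 247824 1080 outPt = true := by decide +kernel

theorem pt4_part41 : allFrom 248904 1080 outPt = true := by decide +kernel

theorem pt4_part42 : allFrom 249984 1080 outPt = true := by decide +kernel

theorem pt4_part43 : allFrom 251064 1080 outPt = true := by decide +kernel

theorem pt4_part44 : allFrom 252144 1080 outPt = true := by decide +kernel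

theorem pt4_part45 : allFrom 253224 1080 outPt = true := by decide +kernel

theorem pt4_part46 : allFrom 254304 1080 outPt = true := by decide +kernel

theorem pt4_part47 : allFrom 255384 396 outPt = true := by decide +kernel

theorem pt4_range : ∀ i, 204624 ≤ i → i < 255780 → outPt i = true := by
  intro i h1 h2
  by_cases h : i < 205704
  · exact CosetEnum.allFrom_iff.1 pt4_part0 i (by omega) (by omega)
  by_cases h : i < 206784
  · exact CosetEnum.allFrom_iff.1 pt4_part1 i (by omega) (by omega)
  by_cases h : i < 207864
  · exact CosetEnum.allFrom_iff.1 pt4_part2 i (by omega) (by omega)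
  by_cases h : i < 208944
  · exact CosetEnum.allFrom_iff.1 pt4_part3 i (by omega) (by omega)
  by_cases h : i < 210024
  · exact CosetEnum.allFrom_iff.1 pt4_part4 i (by omega) (by omega)
  by_cases h : i < 211104
  · exact CosetEnum.allFrom_iff.1 pt4_part5 i (by omega) (by omega)
  by_cases h : i < 212184
  · exact CosetEnum.allFrom_iff.1 pt4_part6 i (by omega) (by omega)
  by_cases h : i < 213264
  · exact CosetEnum.allFrom_iff.1 pt4_part7 i (by omega) (by omega)
  by_cases h : i < 214344
  · exact CosetEnum.allFrom_iff.1 pt4_part8 i (by omega) (by omega)
  by_cases h : i < 215424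
  · exact CosetEnum.allFrom_iff.1 pt4_part9 i (by omega) (by omega)
  by_cases h : i < 216504
  · exact CosetEnum.allFrom_iff.1 pt4_part10 i (by omega) (by omega)
  by_cases h : i < 217584
  · exact CosetEnum.allFrom_iff.1 pt4_part11 i (by omega) (by omega)
  by_cases h : i < 218664
  · exact CosetEnum.allFrom_iff.1 pt4_part12 i (by omega) (by omega)
  by_cases h : i < 219744
  · exact CosetEnum.allFrom_iff.1 pt4_part13 i (by omega) (by omega)
  by_cases h : i < 220824
  · exact CosetEnum.allFrom_iff.1 pt4_part14 i (by omega) (by omega)
  by_cases h : i < 221904
  · exact CosetEnum.allFrom_iff.1 pt4_part15 i (by omega) (by omega)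
  by_cases h : i < 222984
  · exact CosetEnum.allFrom_iff.1 pt4_part16 i (by omega) (by omega)
  by_cases h : i < 224064
  · exact CosetEnum.allFrom_iff.1 pt4_part17 i (by omega) (by omega)
  by_cases h : i < 225144
  · exact CosetEnum.allFrom_iff.1 pt4_part18 i (by omega) (by omega)
  by_cases h : i < 226224
  · exact CosetEnum.allFrom_iff.1 pt4_part19 i (by omega) (by omega)
  by_cases h : i < 227304
  · exact CosetEnum.allFrom_iff.1 pt4_part20 i (by omega) (by omega)
  by_cases h : i < 228384
  · exact CosetEnum.allFrom_iff.1 pt4_part21 i (by omega) (by omega)
  by_cases h : i < 229464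
  · exact CosetEnum.allFrom_iff.1 pt4_part22 i (by omega) (by omega)
  by_cases h : i < 230544
  · exact CosetEnum.allFrom_iff.1 pt4_part23 i (by omega) (by omega)
  by_cases h : i < 231624
  · exact CosetEnum.allFrom_iff.1 pt4_part24 i (by omega) (by omega)
  by_cases h : i < 232704
  · exact CosetEnum.allFrom_iff.1 pt4_part25 i (by omega) (by omega)
  by_cases h : i < 233784
  · exact CosetEnum.allFrom_iff.1 pt4_part26 i (by omega) (by omega)
  by_cases h : i < 234864
  · exact CosetEnum.allFrom_iff.1 pt4_part27 i (by omega) (by omega)
  by_cases h : i < 235944
  · exact CosetEnum.allFrom_iff.1 pt4_part28 i (by omega) (by omega)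
  by_cases h : i < 237024
  · exact CosetEnum.allFrom_iff.1 pt4_part29 i (by omega) (by omega)
  by_cases h : i < 238104
  · exact CosetEnum.allFrom_iff.1 pt4_part30 i (by omega) (by omega)
  by_cases h : i < 239184
  · exact CosetEnum.allFrom_iff.1 pt4_part31 i (by omega) (by omega)
  by_cases h : i < 240264
  · exact CosetEnum.allFrom_iff.1 pt4_part32 i (by omega) (by omega)
  by_cases h : i < 241344
  · exact CosetEnum.allFrom_iff.1 pt4_part33 i (by omega) (by omega)
  by_cases h : i < 242424
  · exact CosetEnum.allFrom_iff.1 pt4_part34 i (by omega) (by omega)
  by_cases h : i < 243504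
  · exact CosetEnum.allFrom_iff.1 pt4_part35 i (by omega) (by omega)
  by_cases h : i < 244584
  · exact CosetEnum.allFrom_iff.1 pt4_part36 i (by omega) (by omega)
  by_cases h : i < 245664
  · exact CosetEnum.allFrom_iff.1 pt4_part37 i (by omega) (by omega)
  by_cases h : i < 246744
  · exact CosetEnum.allFrom_iff.1 pt4_part38 i (by omega) (by omega)
  by_cases h : i < 247824
  · exact CosetEnum.allFrom_iff.1 pt4_part39 i (by omega) (by omega)
  by_cases h : i < 248904
  · exact CosetEnum.allFrom_iff.1 pt4_part40 i (by omega) (by omega)
  by_cases h : i < 249984
  · exact CosetEnum.allFrom_iff.1 pt4_part41 i (by omega) (by omega)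
  by_cases h : i < 251064
  · exact CosetEnum.allFrom_iff.1 pt4_part42 i (by omega) (by omega)
  by_cases h : i < 252144
  · exact CosetEnum.allFrom_iff.1 pt4_part43 i (by omega) (by omega)
  by_cases h : i < 253224
  · exact CosetEnum.allFrom_iff.1 pt4_part44 i (by omega) (by omega)
  by_cases h : i < 254304
  · exact CosetEnum.allFrom_iff.1 pt4_part45 i (by omega) (by omega)
  by_cases h : i < 255384
  · exact CosetEnum.allFrom_iff.1 pt4_part46 i (by omega) (by omega)
  exact CosetEnum.allFrom_iff.1 pt4_part47 i (by omega) (by omega)

end Cfsg.Agent.Lib.Fi24.Out
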