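import Cfsg.Agent.Lib.Fi24.Out.Defs

/-! Checks at the points, part 5. -/

set_option autoImplicit false
set_option maxRecDepth 20000
set_option Elab.async false

namespace Cfsg.Agent.Lib.Fi24.Out

open Cfsg.Agent.Lib.CosetEnum (allBelow allFrom)

theorem pt5_part0 : allFrom 255780 1080 outPt = true := by decide +kernel

theorem pt5_part1 : allFrom 256860 1080 outPt = true := by decide +kernel

theorem pt5_part2 : allFrom 257940 1080 outPt = true := by decide +kernel

theorem pt5_part3 : allFrom 259020 1080 outPt = true := by decide +kernel

theorem pt5_part4 : allFrom 260100 1080 outPt = true := by decide +kernel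

theorem pt5_part5 : allFrom 261180 1080 outPt = true := by decide +kernel

theorem pt5_part6 : allFrom 262260 1080 outPt = true := by decide +kernel

theorem pt5_part7 : allFrom 263340 1080 outPt = true := by decide +kernel

theorem pt5_part8 : allFrom 264420 1080 outPt = true := by decide +kernel

theorem pt5_part9 : allFrom 265500 1080 outPt = true := by decide +kernel

theorem pt5_part10 : allFrom 266580 1080 outPt = true := by decide +kernel

theorem pt5_part11 : allFrom 267660 1080 outPt = true := by decide +kernel

theorem pt5_part12 : allFrom 268740 1080 outPt = true := by decide +kernel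

theorem pt5_part13 : allFrom 269820 1080 outPt = true := by decide +kernel

theorem pt5_part14 : allFrom 270900 1080 outPt = true := by decide +kernel

theorem pt5_part15 : allFrom 271980 1080 outPt = true := by decide +kernel

theorem pt5_part16 : allFrom 273060 1080 outPt = true := by decide +kernel

theorem pt5_part17 : allFrom 274140 1080 outPt = true := by decide +kernel

theorem pt5_part18 : allFrom 275220 1080 outPt = true := by decide +kernel

theorem pt5_part19 : allFrom 276300 1080 outPt = true := by decide +kernel

theorem pt5_part20 : allFrom 277380 1080 outPt = true := by decide +kernel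

theorem pt5_part21 : allFrom 278460 1080 outPt = true := by decide +kernel

theorem pt5_part22 : allFrom 279540 1080 outPt = true := by decide +kernel

theorem pt5_part23 : allFrom 280620 1080 outPt = true := by decide +kernel

theorem pt5_part24 : allFrom 281700 1080 outPt = true := by decide +kernel

theorem pt5_part25 : allFrom 282780 1080 outPt = true := by decide +kernel

theorem pt5_part26 : allFrom 283860 1080 outPt = true := by decide +kernel

theorem pt5_part27 : allFrom 284940 1080 outPt = true := by decide +kernel

theorem pt5_part28 : allFrom 286020 1080 outPt = true := by decide +kernel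

theorem pt5_part29 : allFrom 287100 1080 outPt = true := by decide +kernel

theorem pt5_part30 : allFrom 288180 1080 outPt = true := by decide +kernel

theorem pt5_part31 : allFrom 289260 1080 outPt = true := by decide +kernel

theorem pt5_part32 : allFrom 290340 1080 outPt = true := by decide +kernel

theorem pt5_part33 : allFrom 291420 1080 outPt = true := by decide +kernel

theorem pt5_part34 : allFrom 292500 1080 outPt = true := by decide +kernel

theorem pt5_part35 : allFrom 293580 1080 outPt = true := by decide +kernel

theorem pt5_part36 : allFrom 294660 1080 outPt = true := by decide +kernel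

theorem pt5_part37 : allFrom 295740 1080 outPt = true := by decide +kernel

theorem pt5_part38 : allFrom 296820 1080 outPt = true := by decide +kernel

theorem pt5_part39 : allFrom 297900 1080 outPt = true := by decide +kernel

theorem pt5_part40 : allFrom 298980 1080 outPt = true := by decide +kernel

theorem pt5_part41 : allFrom 300060 1080 outPt = true := by decide +kernel

theorem pt5_part42 : allFrom 301140 1080 outPt = true := by decide +kernel

theorem pt5_part43 : allFrom 302220 1080 outPt = true := by decide +kernel

theorem pt5_part44 : allFrom 303300 1080 outPt = true := by decide +kernel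

theorem pt5_part45 : allFrom 304380 1080 outPt = true := by decide +kernel

theorem pt5_part46 : allFrom 305460 1080 outPt = true := by decide +kernel

theorem pt5_part47 : allFrom 306540 396 outPt = true := by decide +kernel

theorem pt5_range : ∀ i, 255780 ≤ i → i < 306936 → outPt i = true := by
  intro i h1 h2
  by_cases h : i < 256860
  · exact CosetEnum.allFrom_iff.1 pt5_part0 i (by omega) (by omega)
  by_cases h : i < 257940
  · exact CosetEnum.allFrom_iff.1 pt5_part1 i (by omega) (by omega)
  by_cases h : i < 259020
  · exact CosetEnum.allFrom_iff.1 pt5_part2 i (by omega) (by omega)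
  by_cases h : i < 260100
  · exact CosetEnum.allFrom_iff.1 pt5_part3 i (by omega) (by omega)
  by_cases h : i < 261180
  · exact CosetEnum.allFrom_iff.1 pt5_part4 i (by omega) (by omega)
  by_cases h : i < 262260
  · exact CosetEnum.allFrom_iff.1 pt5_part5 i (by omega) (by omega)
  by_cases h : i < 263340
  · exact CosetEnum.allFrom_iff.1 pt5_part6 i (by omega) (by omega)
  by_cases h : i < 264420
  · exact CosetEnum.allFrom_iff.1 pt5_part7 i (by omega) (by omega)
  by_cases h : i < 265500
  · exact CosetEnum.allFrom_iff.1 pt5_part8 i (by omega) (by omega)
  by_cases h : i < 266580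
  · exact CosetEnum.allFrom_iff.1 pt5_part9 i (by omega) (by omega)
  by_cases h : i < 267660
  · exact CosetEnum.allFrom_iff.1 pt5_part10 i (by omega) (by omega)
  by_cases h : i < 268740
  · exact CosetEnum.allFrom_iff.1 pt5_part11 i (by omega) (by omega)
  by_cases h : i < 269820
  · exact CosetEnum.allFrom_iff.1 pt5_part12 i (by omega) (by omega)
  by_cases h : i < 270900
  · exact CosetEnum.allFrom_iff.1 pt5_part13 i (by omega) (by omega)
  by_cases h : i < 271980
  · exact CosetEnum.allFrom_iff.1 pt5_part14 i (by omega) (by omega)
  by_cases h : i < 273060
  · exact CosetEnum.allFrom_iff.1 pt5_part15 i (by omega) (by omega)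
  by_cases h : i < 274140
  · exact CosetEnum.allFrom_iff.1 pt5_part16 i (by omega) (by omega)
  by_cases h : i < 275220
  · exact CosetEnum.allFrom_iff.1 pt5_part17 i (by omega) (by omega)
  by_cases h : i < 276300
  · exact CosetEnum.allFrom_iff.1 pt5_part18 i (by omega) (by omega)
  by_cases h : i < 277380
  · exact CosetEnum.allFrom_iff.1 pt5_part19 i (by omega) (by omega)
  by_cases h : i < 278460
  · exact CosetEnum.allFrom_iff.1 pt5_part20 i (by omega) (by omega)
  by_cases h : i < 279540
  · exact CosetEnum.allFrom_iff.1 pt5_part21 i (by omega) (by omega)
  by_cases h : i < 280620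
  · exact CosetEnum.allFrom_iff.1 pt5_part22 i (by omega) (by omega)
  by_cases h : i < 281700
  · exact CosetEnum.allFrom_iff.1 pt5_part23 i (by omega) (by omega)
  by_cases h : i < 282780
  · exact CosetEnum.allFrom_iff.1 pt5_part24 i (by omega) (by omega)
  by_cases h : i < 283860
  · exact CosetEnum.allFrom_iff.1 pt5_part25 i (by omega) (by omega)
  by_cases h : i < 284940
  · exact CosetEnum.allFrom_iff.1 pt5_part26 i (by omega) (by omega)
  by_cases h : i < 286020
  · exact CosetEnum.allFrom_iff.1 pt5_part27 i (by omega) (by omega)
  by_cases h : i < 287100
  · exact CosetEnum.allFrom_iff.1 pt5_part28 i (by omega) (by omega)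
  by_cases h : i < 288180
  · exact CosetEnum.allFrom_iff.1 pt5_part29 i (by omega) (by omega)
  by_cases h : i < 289260
  · exact CosetEnum.allFrom_iff.1 pt5_part30 i (by omega) (by omega)
  by_cases h : i < 290340
  · exact CosetEnum.allFrom_iff.1 pt5_part31 i (by omega) (by omega)
  by_cases h : i < 291420
  · exact CosetEnum.allFrom_iff.1 pt5_part32 i (by omega) (by omega)
  by_cases h : i < 292500
  · exact CosetEnum.allFrom_iff.1 pt5_part33 i (by omega) (by omega)
  by_cases h : i < 293580
  · exact CosetEnum.allFrom_iff.1 pt5_part34 i (by omega) (by omega)
  by_cases h : i < 294660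
  · exact CosetEnum.allFrom_iff.1 pt5_part35 i (by omega) (by omega)
  by_cases h : i < 295740
  · exact CosetEnum.allFrom_iff.1 pt5_part36 i (by omega) (by omega)
  by_cases h : i < 296820
  · exact CosetEnum.allFrom_iff.1 pt5_part37 i (by omega) (by omega)
  by_cases h : i < 297900
  · exact CosetEnum.allFrom_iff.1 pt5_part38 i (by omega) (by omega)
  by_cases h : i < 298980
  · exact CosetEnum.allFrom_iff.1 pt5_part39 i (by omega) (by omega)
  by_cases h : i < 300060
  · exact CosetEnum.allFrom_iff.1 pt5_part40 i (by omega) (by omega)
  by_cases h : i < 301140
  · exact CosetEnum.allFrom_iff.1 pt5_part41 i (by omega) (by omega)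
  by_cases h : i < 302220
  · exact CosetEnum.allFrom_iff.1 pt5_part42 i (by omega) (by omega)
  by_cases h : i < 303300
  · exact CosetEnum.allFrom_iff.1 pt5_part43 i (by omega) (by omega)
  by_cases h : i < 304380
  · exact CosetEnum.allFrom_iff.1 pt5_part44 i (by omega) (by omega)
  by_cases h : i < 305460
  · exact CosetEnum.allFrom_iff.1 pt5_part45 i (by omega) (by omega)
  by_cases h : i < 306540
  · exact CosetEnum.allFrom_iff.1 pt5_part46 i (by omega) (by omega)
  exact CosetEnum.allFrom_iff.1 pt5_part47 i (by omega) (by omega)

end Cfsg.Agent.Lib.Fi24.Out
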