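import Cfsg.Agent.Lib.Fi24.Out.Defs

/-! The cycles of the second element. -/

set_option autoImplicit false
set_option maxRecDepth 20000
set_option Elab.async false

namespace Cfsg.Agent.Lib.Fi24.Out

open Cfsg.Agent.Lib.CosetEnum (allBelow allFrom)

theorem sc_part0 : allFrom 0 300 sCyc = true := by decide +kernel

theorem sc_part1 : allFrom 300 300 sCyc = true := by decide +kernel

theorem sc_part2 : allFrom 600 300 sCyc = true := by decide +kernel

theorem sc_part3 : allFrom 900 300 sCyc = true := by decide +kernel

theorem sc_part4 : allFrom 1200 300 sCyc = true := by decide +kernel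

theorem sc_part5 : allFrom 1500 300 sCyc = true := by decide +kernel

theorem sc_part6 : allFrom 1800 300 sCyc = true := by decide +kernel

theorem sc_part7 : allFrom 2100 300 sCyc = true := by decide +kernel

theorem sc_part8 : allFrom 2400 300 sCyc = true := by decide +kernel

theorem sc_part9 : allFrom 2700 300 sCyc = true := by decide +kernel

theorem sc_part10 : allFrom 3000 300 sCyc = true := by decide +kernel

theorem sc_part11 : allFrom 3300 300 sCyc = true := by decide +kernel

theorem sc_part12 : allFrom 3600 300 sCyc = true := by decide +kernel

theorem sc_part13 : allFrom 3900 300 sCyc = true := by decide +kernel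

theorem sc_part14 : allFrom 4200 300 sCyc = true := by decide +kernel

theorem sc_part15 : allFrom 4500 300 sCyc = true := by decide +kernel

theorem sc_part16 : allFrom 4800 300 sCyc = true := by decide +kernel

theorem sc_part17 : allFrom 5100 300 sCyc = true := by decide +kernel

theorem sc_part18 : allFrom 5400 300 sCyc = true := by decide +kernel

theorem sc_part19 : allFrom 5700 300 sCyc = true := by decide +kernel

theorem sc_part20 : allFrom 6000 300 sCyc = true := by decide +kernel

theorem sc_part21 : allFrom 6300 300 sCyc = true := by decide +kernel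

theorem sc_part22 : allFrom 6600 300 sCyc = true := by decide +kernel

theorem sc_part23 : allFrom 6900 300 sCyc = true := by decide +kernel

theorem sc_part24 : allFrom 7200 300 sCyc = true := by decide +kernel

theorem sc_part25 : allFrom 7500 300 sCyc = true := by decide +kernel

theorem sc_part26 : allFrom 7800 300 sCyc = true := by decide +kernel

theorem sc_part27 : allFrom 8100 300 sCyc = true := by decide +kernel

theorem sc_part28 : allFrom 8400 300 sCyc = true := by decide +kernel

theorem sc_part29 : allFrom 8700 300 sCyc = true := by decide +kernel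

theorem sc_part30 : allFrom 9000 300 sCyc = true := by decide +kernel

theorem sc_part31 : allFrom 9300 300 sCyc = true := by decide +kernel

theorem sc_part32 : allFrom 9600 300 sCyc = true := by decide +kernel

theorem sc_part33 : allFrom 9900 300 sCyc = true := by decide +kernel

theorem sc_part34 : allFrom 10200 300 sCyc = true := by decide +kernel

theorem sc_part35 : allFrom 10500 300 sCyc = true := by decide +kernel

theorem sc_part36 : allFrom 10800 300 sCyc = true := by decide +kernel

theorem sc_part37 : allFrom 11100 300 sCyc = true := by decide +kernel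

theorem sc_part38 : allFrom 11400 300 sCyc = true := by decide +kernel

theorem sc_part39 : allFrom 11700 300 sCyc = true := by decide +kernel

theorem sc_part40 : allFrom 12000 300 sCyc = true := by decide +kernel

theorem sc_part41 : allFrom 12300 300 sCyc = true := by decide +kernel

theorem sc_part42 : allFrom 12600 300 sCyc = true := by decide +kernel

theorem sc_part43 : allFrom 12900 300 sCyc = true := by decide +kernel

theorem sc_part44 : allFrom 13200 300 sCyc = true := by decide +kernel

theorem sc_part45 : allFrom 13500 300 sCyc = true := by decide +kernel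

theorem sc_part46 : allFrom 13800 300 sCyc = true := by decide +kernel

theorem sc_part47 : allFrom 14100 300 sCyc = true := by decide +kernel

theorem sc_part48 : allFrom 14400 300 sCyc = true := by decide +kernel

theorem sc_part49 : allFrom 14700 300 sCyc = true := by decide +kernel

theorem sc_part50 : allFrom 15000 300 sCyc = true := by decide +kernel

theorem sc_part51 : allFrom 15300 300 sCyc = true := by decide +kernel

theorem sc_part52 : allFrom 15600 300 sCyc = true := by decide +kernel

theorem sc_part53 : allFrom 15900 300 sCyc = true := by decide +kernel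

theorem sc_part54 : allFrom 16200 300 sCyc = true := by decide +kernel

theorem sc_part55 : allFrom 16500 300 sCyc = true := by decide +kernel

theorem sc_part56 : allFrom 16800 300 sCyc = true := by decide +kernel

theorem sc_part57 : allFrom 17100 300 sCyc = true := by decide +kernel

theorem sc_part58 : allFrom 17400 300 sCyc = true := by decide +kernel

theorem sc_part59 : allFrom 17700 300 sCyc = true := by decide +kernel

theorem sc_part60 : allFrom 18000 300 sCyc = true := by decide +kernel

theorem sc_part61 : allFrom 18300 300 sCyc = true := by decide +kernel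

theorem sc_part62 : allFrom 18600 300 sCyc = true := by decide +kernel

theorem sc_part63 : allFrom 18900 300 sCyc = true := by decide +kernel

theorem sc_part64 : allFrom 19200 300 sCyc = true := by decide +kernel

theorem sc_part65 : allFrom 19500 300 sCyc = true := by decide +kernel

theorem sc_part66 : allFrom 19800 300 sCyc = true := by decide +kernel

theorem sc_part67 : allFrom 20100 300 sCyc = true := by decide +kernel

theorem sc_part68 : allFrom 20400 300 sCyc = true := by decide +kernel

theorem sc_part69 : allFrom 20700 300 sCyc = true := by decide +kernel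

theorem sc_part70 : allFrom 21000 300 sCyc = true := by decide +kernel

theorem sc_part71 : allFrom 21300 300 sCyc = true := by decide +kernel

theorem sc_part72 : allFrom 21600 300 sCyc = true := by decide +kernel

theorem sc_part73 : allFrom 21900 60 sCyc = true := by decide +kernel

theorem sc_range : ∀ i, 0 ≤ i → i < 21960 → sCyc i = true := by
  intro i h1 h2
  by_cases h : i < 300
  · exact CosetEnum.allFrom_iff.1 sc_part0 i (by omega) (by omega)
  by_cases h : i < 600
  · exact CosetEnum.allFrom_iff.1 sc_part1 i (by omega) (by omega)
  by_cases h : i < 900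
  · exact CosetEnum.allFrom_iff.1 sc_part2 i (by omega) (by omega)
  by_cases h : i < 1200
  · exact CosetEnum.allFrom_iff.1 sc_part3 i (by omega) (by omega)
  by_cases h : i < 1500
  · exact CosetEnum.allFrom_iff.1 sc_part4 i (by omega) (by omega)
  by_cases h : i < 1800
  · exact CosetEnum.allFrom_iff.1 sc_part5 i (by omega) (by omega)
  by_cases h : i < 2100
  · exact CosetEnum.allFrom_iff.1 sc_part6 i (by omega) (by omega)
  by_cases h : i < 2400
  · exact CosetEnum.allFrom_iff.1 sc_part7 i (by omega) (by omega)
  by_cases h : i < 2700
  · exact CosetEnum.allFrom_iff.1 sc_part8 i (by omega) (by omega)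
  by_cases h : i < 3000
  · exact CosetEnum.allFrom_iff.1 sc_part9 i (by omega) (by omega)
  by_cases h : i < 3300
  · exact CosetEnum.allFrom_iff.1 sc_part10 i (by omega) (by omega)
  by_cases h : i < 3600
  · exact CosetEnum.allFrom_iff.1 sc_part11 i (by omega) (by omega)
  by_cases h : i < 3900
  · exact CosetEnum.allFrom_iff.1 sc_part12 i (by omega) (by omega)
  by_cases h : i < 4200
  · exact CosetEnum.allFrom_iff.1 sc_part13 i (by omega) (by omega)
  by_cases h : i < 4500
  · exact CosetEnum.allFrom_iff.1 sc_part14 i (by omega) (by omega)
  by_cases h : i < 4800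
  · exact CosetEnum.allFrom_iff.1 sc_part15 i (by omega) (by omega)
  by_cases h : i < 5100
  · exact CosetEnum.allFrom_iff.1 sc_part16 i (by omega) (by omega)
  by_cases h : i < 5400
  · exact CosetEnum.allFrom_iff.1 sc_part17 i (by omega) (by omega)
  by_cases h : i < 5700
  · exact CosetEnum.allFrom_iff.1 sc_part18 i (by omega) (by omega)
  by_cases h : i < 6000
  · exact CosetEnum.allFrom_iff.1 sc_part19 i (by omega) (by omega)
  by_cases h : i < 6300
  · exact CosetEnum.allFrom_iff.1 sc_part20 i (by omega) (by omega)
  by_cases h : i < 6600
  · exact CosetEnum.allFrom_iff.1 sc_part21 i (by omega) (by omega)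
  by_cases h : i < 6900
  · exact CosetEnum.allFrom_iff.1 sc_part22 i (by omega) (by omega)
  by_cases h : i < 7200
  · exact CosetEnum.allFrom_iff.1 sc_part23 i (by omega) (by omega)
  by_cases h : i < 7500
  · exact CosetEnum.allFrom_iff.1 sc_part24 i (by omega) (by omega)
  by_cases h : i < 7800
  · exact CosetEnum.allFrom_iff.1 sc_part25 i (by omega) (by omega)
  by_cases h : i < 8100
  · exact CosetEnum.allFrom_iff.1 sc_part26 i (by omega) (by omega)
  by_cases h : i < 8400
  · exact CosetEnum.allFrom_iff.1 sc_part27 i (by omega) (by omega)
  by_cases h : i < 8700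
  · exact CosetEnum.allFrom_iff.1 sc_part28 i (by omega) (by omega)
  by_cases h : i < 9000
  · exact CosetEnum.allFrom_iff.1 sc_part29 i (by omega) (by omega)
  by_cases h : i < 9300
  · exact CosetEnum.allFrom_iff.1 sc_part30 i (by omega) (by omega)
  by_cases h : i < 9600
  · exact CosetEnum.allFrom_iff.1 sc_part31 i (by omega) (by omega)
  by_cases h : i < 9900
  · exact CosetEnum.allFrom_iff.1 sc_part32 i (by omega) (by omega)
  by_cases h : i < 10200
  · exact CosetEnum.allFrom_iff.1 sc_part33 i (by omega) (by omega)
  by_cases h : i < 10500
  · exact CosetEnum.allFrom_iff.1 sc_part34 i (by omega) (by omega)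
  by_cases h : i < 10800
  · exact CosetEnum.allFrom_iff.1 sc_part35 i (by omega) (by omega)
  by_cases h : i < 11100
  · exact CosetEnum.allFrom_iff.1 sc_part36 i (by omega) (by omega)
  by_cases h : i < 11400
  · exact CosetEnum.allFrom_iff.1 sc_part37 i (by omega) (by omega)
  by_cases h : i < 11700
  · exact CosetEnum.allFrom_iff.1 sc_part38 i (by omega) (by omega)
  by_cases h : i < 12000
  · exact CosetEnum.allFrom_iff.1 sc_part39 i (by omega) (by omega)
  by_cases h : i < 12300
  · exact CosetEnum.allFrom_iff.1 sc_part40 i (by omega) (by omega)
  by_cases h : i < 12600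
  · exact CosetEnum.allFrom_iff.1 sc_part41 i (by omega) (by omega)
  by_cases h : i < 12900
  · exact CosetEnum.allFrom_iff.1 sc_part42 i (by omega) (by omega)
  by_cases h : i < 13200
  · exact CosetEnum.allFrom_iff.1 sc_part43 i (by omega) (by omega)
  by_cases h : i < 13500
  · exact CosetEnum.allFrom_iff.1 sc_part44 i (by omega) (by omega)
  by_cases h : i < 13800
  · exact CosetEnum.allFrom_iff.1 sc_part45 i (by omega) (by omega)
  by_cases h : i < 14100
  · exact CosetEnum.allFrom_iff.1 sc_part46 i (by omega) (by omega)
  by_cases h : i < 14400
  · exact CosetEnum.allFrom_iff.1 sc_part47 i (by omega) (by omega)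
  by_cases h : i < 14700
  · exact CosetEnum.allFrom_iff.1 sc_part48 i (by omega) (by omega)
  by_cases h : i < 15000
  · exact CosetEnum.allFrom_iff.1 sc_part49 i (by omega) (by omega)
  by_cases h : i < 15300
  · exact CosetEnum.allFrom_iff.1 sc_part50 i (by omega) (by omega)
  by_cases h : i < 15600
  · exact CosetEnum.allFrom_iff.1 sc_part51 i (by omega) (by omega)
  by_cases h : i < 15900
  · exact CosetEnum.allFrom_iff.1 sc_part52 i (by omega) (by omega)
  by_cases h : i < 16200
  · exact CosetEnum.allFrom_iff.1 sc_part53 i (by omega) (by omega)
  by_cases h : i < 16500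
  · exact CosetEnum.allFrom_iff.1 sc_part54 i (by omega) (by omega)
  by_cases h : i < 16800
  · exact CosetEnum.allFrom_iff.1 sc_part55 i (by omega) (by omega)
  by_cases h : i < 17100
  · exact CosetEnum.allFrom_iff.1 sc_part56 i (by omega) (by omega)
  by_cases h : i < 17400
  · exact CosetEnum.allFrom_iff.1 sc_part57 i (by omega) (by omega)
  by_cases h : i < 17700
  · exact CosetEnum.allFrom_iff.1 sc_part58 i (by omega) (by omega)
  by_cases h : i < 18000
  · exact CosetEnum.allFrom_iff.1 sc_part59 i (by omega) (by omega)
  by_cases h : i < 18300
  · exact CosetEnum.allFrom_iff.1 sc_part60 i (by omega) (by omega)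
  by_cases h : i < 18600
  · exact CosetEnum.allFrom_iff.1 sc_part61 i (by omega) (by omega)
  by_cases h : i < 18900
  · exact CosetEnum.allFrom_iff.1 sc_part62 i (by omega) (by omega)
  by_cases h : i < 19200
  · exact CosetEnum.allFrom_iff.1 sc_part63 i (by omega) (by omega)
  by_cases h : i < 19500
  · exact CosetEnum.allFrom_iff.1 sc_part64 i (by omega) (by omega)
  by_cases h : i < 19800
  · exact CosetEnum.allFrom_iff.1 sc_part65 i (by omega) (by omega)
  by_cases h : i < 20100
  · exact CosetEnum.allFrom_iff.1 sc_part66 i (by omega) (by omega)
  by_cases h : i < 20400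
  · exact CosetEnum.allFrom_iff.1 sc_part67 i (by omega) (by omega)
  by_cases h : i < 20700
  · exact CosetEnum.allFrom_iff.1 sc_part68 i (by omega) (by omega)
  by_cases h : i < 21000
  · exact CosetEnum.allFrom_iff.1 sc_part69 i (by omega) (by omega)
  by_cases h : i < 21300
  · exact CosetEnum.allFrom_iff.1 sc_part70 i (by omega) (by omega)
  by_cases h : i < 21600
  · exact CosetEnum.allFrom_iff.1 sc_part71 i (by omega) (by omega)
  by_cases h : i < 21900
  · exact CosetEnum.allFrom_iff.1 sc_part72 i (by omega) (by omega)
  exact CosetEnum.allFrom_iff.1 sc_part73 i (by omega) (by omega)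

end Cfsg.Agent.Lib.Fi24.Out
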