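import Cfsg.Agent.Lib.Fi24.Out.Defs

/-! The cycles of the first element. -/

set_option autoImplicit false
set_option maxRecDepth 20000
set_option Elab.async false

namespace Cfsg.Agent.Lib.Fi24.Out

open Cfsg.Agent.Lib.CosetEnum (allBelow allFrom)

theorem xc_part0 : allFrom 0 150 xCyc = true := by decide +kernel

theorem xc_part1 : allFrom 150 150 xCyc = true := by decide +kernel

theorem xc_part2 : allFrom 300 150 xCyc = true := by decide +kernel

theorem xc_part3 : allFrom 450 150 xCyc = true := by decide +kernel

theorem xc_part4 : allFrom 600 150 xCyc = true := by decide +kernel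

theorem xc_part5 : allFrom 750 150 xCyc = true := by decide +kernel

theorem xc_part6 : allFrom 900 150 xCyc = true := by decide +kernel

theorem xc_part7 : allFrom 1050 150 xCyc = true := by decide +kernel

theorem xc_part8 : allFrom 1200 150 xCyc = true := by decide +kernel

theorem xc_part9 : allFrom 1350 150 xCyc = true := by decide +kernel

theorem xc_part10 : allFrom 1500 150 xCyc = true := by decide +kernel

theorem xc_part11 : allFrom 1650 150 xCyc = true := by decide +kernel

theorem xc_part12 : allFrom 1800 150 xCyc = true := by decide +kernel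

theorem xc_part13 : allFrom 1950 150 xCyc = true := by decide +kernel

theorem xc_part14 : allFrom 2100 150 xCyc = true := by decide +kernel

theorem xc_part15 : allFrom 2250 150 xCyc = true := by decide +kernel

theorem xc_part16 : allFrom 2400 150 xCyc = true := by decide +kernel

theorem xc_part17 : allFrom 2550 150 xCyc = true := by decide +kernel

theorem xc_part18 : allFrom 2700 150 xCyc = true := by decide +kernel

theorem xc_part19 : allFrom 2850 150 xCyc = true := by decide +kernel

theorem xc_part20 : allFrom 3000 150 xCyc = true := by decide +kernel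

theorem xc_part21 : allFrom 3150 150 xCyc = true := by decide +kernel

theorem xc_part22 : allFrom 3300 150 xCyc = true := by decide +kernel

theorem xc_part23 : allFrom 3450 150 xCyc = true := by decide +kernel

theorem xc_part24 : allFrom 3600 150 xCyc = true := by decide +kernel

theorem xc_part25 : allFrom 3750 150 xCyc = true := by decide +kernel

theorem xc_part26 : allFrom 3900 150 xCyc = true := by decide +kernel

theorem xc_part27 : allFrom 4050 150 xCyc = true := by decide +kernel

theorem xc_part28 : allFrom 4200 150 xCyc = true := by decide +kernel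

theorem xc_part29 : allFrom 4350 150 xCyc = true := by decide +kernel

theorem xc_part30 : allFrom 4500 150 xCyc = true := by decide +kernel

theorem xc_part31 : allFrom 4650 150 xCyc = true := by decide +kernel

theorem xc_part32 : allFrom 4800 150 xCyc = true := by decide +kernel

theorem xc_part33 : allFrom 4950 150 xCyc = true := by decide +kernel

theorem xc_part34 : allFrom 5100 150 xCyc = true := by decide +kernel

theorem xc_part35 : allFrom 5250 150 xCyc = true := by decide +kernel

theorem xc_part36 : allFrom 5400 150 xCyc = true := by decide +kernel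

theorem xc_part37 : allFrom 5550 150 xCyc = true := by decide +kernel

theorem xc_part38 : allFrom 5700 150 xCyc = true := by decide +kernel

theorem xc_part39 : allFrom 5850 150 xCyc = true := by decide +kernel

theorem xc_part40 : allFrom 6000 150 xCyc = true := by decide +kernel

theorem xc_part41 : allFrom 6150 150 xCyc = true := by decide +kernel

theorem xc_part42 : allFrom 6300 150 xCyc = true := by decide +kernel

theorem xc_part43 : allFrom 6450 150 xCyc = true := by decide +kernel

theorem xc_part44 : allFrom 6600 150 xCyc = true := by decide +kernel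

theorem xc_part45 : allFrom 6750 150 xCyc = true := by decide +kernel

theorem xc_part46 : allFrom 6900 150 xCyc = true := by decide +kernel

theorem xc_part47 : allFrom 7050 150 xCyc = true := by decide +kernel

theorem xc_part48 : allFrom 7200 150 xCyc = true := by decide +kernel

theorem xc_part49 : allFrom 7350 150 xCyc = true := by decide +kernel

theorem xc_part50 : allFrom 7500 150 xCyc = true := by decide +kernel

theorem xc_part51 : allFrom 7650 150 xCyc = true := by decide +kernel

theorem xc_part52 : allFrom 7800 150 xCyc = true := by decide +kernel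

theorem xc_part53 : allFrom 7950 150 xCyc = true := by decide +kernel

theorem xc_part54 : allFrom 8100 150 xCyc = true := by decide +kernel

theorem xc_part55 : allFrom 8250 150 xCyc = true := by decide +kernel

theorem xc_part56 : allFrom 8400 150 xCyc = true := by decide +kernel

theorem xc_part57 : allFrom 8550 150 xCyc = true := by decide +kernel

theorem xc_part58 : allFrom 8700 150 xCyc = true := by decide +kernel

theorem xc_part59 : allFrom 8850 150 xCyc = true := by decide +kernel

theorem xc_part60 : allFrom 9000 150 xCyc = true := by decide +kernel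

theorem xc_part61 : allFrom 9150 150 xCyc = true := by decide +kernel

theorem xc_part62 : allFrom 9300 150 xCyc = true := by decide +kernel

theorem xc_part63 : allFrom 9450 150 xCyc = true := by decide +kernel

theorem xc_part64 : allFrom 9600 150 xCyc = true := by decide +kernel

theorem xc_part65 : allFrom 9750 150 xCyc = true := by decide +kernel

theorem xc_part66 : allFrom 9900 150 xCyc = true := by decide +kernel

theorem xc_part67 : allFrom 10050 150 xCyc = true := by decide +kernel

theorem xc_part68 : allFrom 10200 150 xCyc = true := by decide +kernel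

theorem xc_part69 : allFrom 10350 150 xCyc = true := by decide +kernel

theorem xc_part70 : allFrom 10500 84 xCyc = true := by decide +kernel

theorem xc_range : ∀ i, 0 ≤ i → i < 10584 → xCyc i = true := by
  intro i h1 h2
  by_cases h : i < 150
  · exact CosetEnum.allFrom_iff.1 xc_part0 i (by omega) (by omega)
  by_cases h : i < 300
  · exact CosetEnum.allFrom_iff.1 xc_part1 i (by omega) (by omega)
  by_cases h : i < 450
  · exact CosetEnum.allFrom_iff.1 xc_part2 i (by omega) (by omega)
  by_cases h : i < 600
  · exact CosetEnum.allFrom_iff.1 xc_part3 i (by omega) (by omega)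
  by_cases h : i < 750
  · exact CosetEnum.allFrom_iff.1 xc_part4 i (by omega) (by omega)
  by_cases h : i < 900
  · exact CosetEnum.allFrom_iff.1 xc_part5 i (by omega) (by omega)
  by_cases h : i < 1050
  · exact CosetEnum.allFrom_iff.1 xc_part6 i (by omega) (by omega)
  by_cases h : i < 1200
  · exact CosetEnum.allFrom_iff.1 xc_part7 i (by omega) (by omega)
  by_cases h : i < 1350
  · exact CosetEnum.allFrom_iff.1 xc_part8 i (by omega) (by omega)
  by_cases h : i < 1500
  · exact CosetEnum.allFrom_iff.1 xc_part9 i (by omega) (by omega)
  by_cases h : i < 1650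
  · exact CosetEnum.allFrom_iff.1 xc_part10 i (by omega) (by omega)
  by_cases h : i < 1800
  · exact CosetEnum.allFrom_iff.1 xc_part11 i (by omega) (by omega)
  by_cases h : i < 1950
  · exact CosetEnum.allFrom_iff.1 xc_part12 i (by omega) (by omega)
  by_cases h : i < 2100
  · exact CosetEnum.allFrom_iff.1 xc_part13 i (by omega) (by omega)
  by_cases h : i < 2250
  · exact CosetEnum.allFrom_iff.1 xc_part14 i (by omega) (by omega)
  by_cases h : i < 2400
  · exact CosetEnum.allFrom_iff.1 xc_part15 i (by omega) (by omega)
  by_cases h : i < 2550
  · exact CosetEnum.allFrom_iff.1 xc_part16 i (by omega) (by omega)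
  by_cases h : i < 2700
  · exact CosetEnum.allFrom_iff.1 xc_part17 i (by omega) (by omega)
  by_cases h : i < 2850
  · exact CosetEnum.allFrom_iff.1 xc_part18 i (by omega) (by omega)
  by_cases h : i < 3000
  · exact CosetEnum.allFrom_iff.1 xc_part19 i (by omega) (by omega)
  by_cases h : i < 3150
  · exact CosetEnum.allFrom_iff.1 xc_part20 i (by omega) (by omega)
  by_cases h : i < 3300
  · exact CosetEnum.allFrom_iff.1 xc_part21 i (by omega) (by omega)
  by_cases h : i < 3450
  · exact CosetEnum.allFrom_iff.1 xc_part22 i (by omega) (by omega)
  by_cases h : i < 3600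
  · exact CosetEnum.allFrom_iff.1 xc_part23 i (by omega) (by omega)
  by_cases h : i < 3750
  · exact CosetEnum.allFrom_iff.1 xc_part24 i (by omega) (by omega)
  by_cases h : i < 3900
  · exact CosetEnum.allFrom_iff.1 xc_part25 i (by omega) (by omega)
  by_cases h : i < 4050
  · exact CosetEnum.allFrom_iff.1 xc_part26 i (by omega) (by omega)
  by_cases h : i < 4200
  · exact CosetEnum.allFrom_iff.1 xc_part27 i (by omega) (by omega)
  by_cases h : i < 4350
  · exact CosetEnum.allFrom_iff.1 xc_part28 i (by omega) (by omega)
  by_cases h : i < 4500
  · exact CosetEnum.allFrom_iff.1 xc_part29 i (by omega) (by omega)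
  by_cases h : i < 4650
  · exact CosetEnum.allFrom_iff.1 xc_part30 i (by omega) (by omega)
  by_cases h : i < 4800
  · exact CosetEnum.allFrom_iff.1 xc_part31 i (by omega) (by omega)
  by_cases h : i < 4950
  · exact CosetEnum.allFrom_iff.1 xc_part32 i (by omega) (by omega)
  by_cases h : i < 5100
  · exact CosetEnum.allFrom_iff.1 xc_part33 i (by omega) (by omega)
  by_cases h : i < 5250
  · exact CosetEnum.allFrom_iff.1 xc_part34 i (by omega) (by omega)
  by_cases h : i < 5400
  · exact CosetEnum.allFrom_iff.1 xc_part35 i (by omega) (by omega)
  by_cases h : i < 5550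
  · exact CosetEnum.allFrom_iff.1 xc_part36 i (by omega) (by omega)
  by_cases h : i < 5700
  · exact CosetEnum.allFrom_iff.1 xc_part37 i (by omega) (by omega)
  by_cases h : i < 5850
  · exact CosetEnum.allFrom_iff.1 xc_part38 i (by omega) (by omega)
  by_cases h : i < 6000
  · exact CosetEnum.allFrom_iff.1 xc_part39 i (by omega) (by omega)
  by_cases h : i < 6150
  · exact CosetEnum.allFrom_iff.1 xc_part40 i (by omega) (by omega)
  by_cases h : i < 6300
  · exact CosetEnum.allFrom_iff.1 xc_part41 i (by omega) (by omega)
  by_cases h : i < 6450
  · exact CosetEnum.allFrom_iff.1 xc_part42 i (by omega) (by omega)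
  by_cases h : i < 6600
  · exact CosetEnum.allFrom_iff.1 xc_part43 i (by omega) (by omega)
  by_cases h : i < 6750
  · exact CosetEnum.allFrom_iff.1 xc_part44 i (by omega) (by omega)
  by_cases h : i < 6900
  · exact CosetEnum.allFrom_iff.1 xc_part45 i (by omega) (by omega)
  by_cases h : i < 7050
  · exact CosetEnum.allFrom_iff.1 xc_part46 i (by omega) (by omega)
  by_cases h : i < 7200
  · exact CosetEnum.allFrom_iff.1 xc_part47 i (by omega) (by omega)
  by_cases h : i < 7350
  · exact CosetEnum.allFrom_iff.1 xc_part48 i (by omega) (by omega)
  by_cases h : i < 7500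
  · exact CosetEnum.allFrom_iff.1 xc_part49 i (by omega) (by omega)
  by_cases h : i < 7650
  · exact CosetEnum.allFrom_iff.1 xc_part50 i (by omega) (by omega)
  by_cases h : i < 7800
  · exact CosetEnum.allFrom_iff.1 xc_part51 i (by omega) (by omega)
  by_cases h : i < 7950
  · exact CosetEnum.allFrom_iff.1 xc_part52 i (by omega) (by omega)
  by_cases h : i < 8100
  · exact CosetEnum.allFrom_iff.1 xc_part53 i (by omega) (by omega)
  by_cases h : i < 8250
  · exact CosetEnum.allFrom_iff.1 xc_part54 i (by omega) (by omega)
  by_cases h : i < 8400
  · exact CosetEnum.allFrom_iff.1 xc_part55 i (by omega) (by omega)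
  by_cases h : i < 8550
  · exact CosetEnum.allFrom_iff.1 xc_part56 i (by omega) (by omega)
  by_cases h : i < 8700
  · exact CosetEnum.allFrom_iff.1 xc_part57 i (by omega) (by omega)
  by_cases h : i < 8850
  · exact CosetEnum.allFrom_iff.1 xc_part58 i (by omega) (by omega)
  by_cases h : i < 9000
  · exact CosetEnum.allFrom_iff.1 xc_part59 i (by omega) (by omega)
  by_cases h : i < 9150
  · exact CosetEnum.allFrom_iff.1 xc_part60 i (by omega) (by omega)
  by_cases h : i < 9300
  · exact CosetEnum.allFrom_iff.1 xc_part61 i (by omega) (by omega)
  by_cases h : i < 9450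
  · exact CosetEnum.allFrom_iff.1 xc_part62 i (by omega) (by omega)
  by_cases h : i < 9600
  · exact CosetEnum.allFrom_iff.1 xc_part63 i (by omega) (by omega)
  by_cases h : i < 9750
  · exact CosetEnum.allFrom_iff.1 xc_part64 i (by omega) (by omega)
  by_cases h : i < 9900
  · exact CosetEnum.allFrom_iff.1 xc_part65 i (by omega) (by omega)
  by_cases h : i < 10050
  · exact CosetEnum.allFrom_iff.1 xc_part66 i (by omega) (by omega)
  by_cases h : i < 10200
  · exact CosetEnum.allFrom_iff.1 xc_part67 i (by omega) (by omega)
  by_cases h : i < 10350
  · exact CosetEnum.allFrom_iff.1 xc_part68 i (by omega) (by omega)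
  by_cases h : i < 10500
  · exact CosetEnum.allFrom_iff.1 xc_part69 i (by omega) (by omega)
  exact CosetEnum.allFrom_iff.1 xc_part70 i (by omega) (by omega)

end Cfsg.Agent.Lib.Fi24.Out
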