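import Cfsg.Agent.Lib.Fi24.Out.Trans
import Cfsg.Agent.Lib.Fi24.Out.CheckPt0
import Cfsg.Agent.Lib.Fi24.Out.CheckPt1
import Cfsg.Agent.Lib.Fi24.Out.CheckPt2
import Cfsg.Agent.Lib.Fi24.Out.CheckPt3
import Cfsg.Agent.Lib.Fi24.Out.CheckPt4
import Cfsg.Agent.Lib.Fi24.Out.CheckPt5
import Cfsg.Agent.Lib.Fi24.Out.CheckX
import Cfsg.Agent.Lib.Fi24.Out.CheckS

/-!
The centralisers of the two elements: an element commuting with one preserves the pattern of commuting in its
cycles, and one that fixes a cycle generating the group is trivial.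
-/

set_option autoImplicit false
set_option maxRecDepth 20000

namespace Cfsg.Agent.Lib.Fi24.Out

open Cfsg.Agent.Lib.CosetEnum (PTree force force_eq allBelow allBelow_iff)
open Cfsg.Agent.Lib

attribute [local irreducible] table tree small big subPos bigTree xTab sTab xRep sRep xPos sPos

theorem outPt_ok (j : ℕ) (hj : j < 306936) : outPt j = true := by
  by_cases h : j < 51156
  · exact pt0_range j (by omega) h
  by_cases h : j < 102312
  · exact pt1_range j (by omega) h
  by_cases h : j < 153468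
  · exact pt2_range j (by omega) h
  by_cases h : j < 204624
  · exact pt3_range j (by omega) h
  by_cases h : j < 255780
  · exact pt4_range j (by omega) h
  exact pt5_range j (by omega) hj

/-- The element of order 29. -/
noncomputable def xE : G := val xWord

/-- The element of order 14. -/
noncomputable def sE : G := val sWord

/-- A centralising element. -/
noncomputable def cE (a : ℕ) : G := val (cWords.getD a [])

theorem cWords_lt : ∀ a, ∀ g ∈ cWords.getD a [], g < 12 := by
  intro a g hg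
  rcases Nat.lt_or_ge a cWords.length with h | h
  · exact (show ∀ a < 6, ∀ g ∈ cWords.getD a [], g < 12 by decide +kernel) a h g hg
  · rw [List.getD_eq_default _ _ h] at hg; simp at hg

theorem itTab_zero (Q : PTree) (i : ℕ) : itTab Q 0 i = i := rfl

theorem itTab_succ (Q : PTree) (n i : ℕ) : itTab Q (n + 1) i = Cert.col19 Q (itTab Q n i) := by
  change force (itTab Q n i) (Cert.col19 Q) = _
  rw [force_eq]

namespace OFacts

variable (F : OFacts)
include F

theorem outPt_spec {j : ℕ} (hj : j < 306936) :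
    Cert.col19 xTab j = Cert.scanT table xWord j ∧ Cert.col19 sTab j < 306936 ∧
      Cert.col19 sTab (Cert.col19 xTab j) = itTab xTab 6 (Cert.col19 sTab j) ∧
      (Cert.col19 xPos j / 32 < 10584 ∧ Cert.col19 xRep (Cert.col19 xPos j / 32) ≤ j ∧
        itTab xTab (Cert.col19 xPos j % 32) (Cert.col19 xRep (Cert.col19 xPos j / 32)) = j) ∧
      (Cert.col19 sPos j / 16 < 21960 ∧
        itTab sTab (Cert.col19 sPos j % 16) (Cert.col19 sRep (Cert.col19 sPos j / 16)) = j) := by
  have h := outPt_ok j hj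
  simp only [outPt, force_eq, Bool.and_eq_true, Nat.beq_eq, Nat.blt_eq, Nat.ble_eq] at h
  obtain ⟨⟨⟨⟨h1, h2⟩, h3⟩, ⟨h4, h5⟩, h6⟩, h7, h8⟩ := h
  exact ⟨h1, h2, h3, ⟨h4, h5, h6⟩, h7, h8⟩

theorem mv_xE (i : Fin 306936) : (F.mv xE i).1 = Cert.col19 xTab i.1 := by
  rw [(F.outPt_spec i.2).1]
  exact F.mv_val xWord (by decide +kernel) i

theorem mv_pow_tab {z : G} {Q : PTree} (hz : ∀ i, (F.mv z i).1 = Cert.col19 Q i.1) (n : ℕ)
    (i : Fin 306936) : (F.mv (z ^ n) i).1 = itTab Q n i.1 := by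
  induction n with
  | zero => rw [pow_zero, F.mv_one, itTab_zero]
  | succ n ih => rw [pow_succ, F.mv_mul, hz, itTab_succ, ih]

theorem x_mul_s : xE * sE = sE * xE ^ 6 := by
  have hw : ∀ w : List ℕ, (∀ g ∈ w, g < 12) → ∀ (n : ℕ), val (List.replicate n w).flatten = val w ^ n :=
    fun w _ n => prod_replicate n w
  have hm : ∀ u v : List ℕ, val (u ++ v) = val u * val v := fun u v => by simp [val]
  rw [xE, sE, ← hw _ (by decide +kernel), ← hm, ← hm]
  refine F.eq_of_genPts fun g hg hp => Fin.ext ?_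
  rw [F.mv_val _ (by decide +kernel), F.mv_val _ (by decide +kernel)]
  exact (show ∀ g < 12, Cert.scanT table (xWord ++ sWord) (genPts.getD g 0) =
    Cert.scanT table (sWord ++ (List.replicate 6 xWord).flatten) (genPts.getD g 0) by decide +kernel) g hg

theorem mv_sE (i : Fin 306936) : (F.mv sE i).1 = Cert.col19 sTab i.1 := by
  suffices ∀ n, ∀ j : Fin 306936, j.1 = n → (F.mv sE j).1 = Cert.col19 sTab j.1 from this i.1 i rfl
  intro n
  induction n using Nat.strong_induction_on with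
  | _ n ih =>
    intro j hj
    obtain ⟨-, -, -, ⟨hc, hle, hcyc⟩, -⟩ := F.outPt_spec j.2
    have hx := xc_range _ (Nat.zero_le _) hc
    simp only [xCyc, force_eq, Bool.and_eq_true, Nat.blt_eq] at hx
    obtain ⟨⟨hr, hstep⟩, -⟩ := hx
    generalize Cert.col19 xPos j.1 % 32 = k at hcyc
    generalize Cert.col19 xRep (Cert.col19 xPos j.1 / 32) = r at hle hcyc hr hstep
    have hbase : (F.mv sE ⟨r, hr⟩).1 = Cert.col19 sTab r := by
      have hbase12 : ∀ g < 12, Cert.scanT table sWord (genPts.getD g 0) = Cert.col19 sTab (genPts.getD g 0) := by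
        decide +kernel
      simp only [sStep, force_eq, Bool.or_eq_true, Nat.beq_eq] at hstep
      rcases Nat.eq_zero_or_pos r with rfl | hpos
      · exact (F.mv_val sWord (by decide +kernel) _).trans (hbase12 0 (by omega))
      rcases hstep with h0 | hstep
      · omega
      obtain ⟨h1, h2, h3⟩ := tree_step hr (by omega)
      let p : Fin 306936 := ⟨Cert.parent tree r / 16, by omega⟩
      have hp : (F.mv sE p).1 = Cert.col19 sTab p.1 := ih p.1 (show p.1 < n by
        show Cert.parent tree r / 16 < n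
        omega) p rfl
      obtain ⟨hG, hT⟩ := F.genPts_tau _ h2
      have hq : (⟨r, hr⟩ : Fin 306936) = F.mv (tau (genPts.getD (Cert.parent tree r % 16) 0)) p :=
        Fin.ext (by rw [hT, F.mv_xg h2]; exact h3.symm)
      have hg : (F.mv sE ⟨_, hG⟩).1 = Cert.col19 sTab (genPts.getD (Cert.parent tree r % 16) 0) :=
        (F.mv_val sWord (by decide +kernel) _).trans (hbase12 _ h2)
      rw [hq, F.mv_tau_of sE ⟨_, hG⟩, ← F.reflp_eq, hg, hp]
      exact hstep.symm
    have hpow : ∀ m : ℕ, (F.mv sE (F.mv (xE ^ m) ⟨r, hr⟩)).1 = Cert.col19 sTab (F.mv (xE ^ m) ⟨r, hr⟩).1 := by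
      intro m
      induction m with
      | zero => rw [pow_zero, F.mv_one]; exact hbase
      | succ m ihm =>
        rw [pow_succ, F.mv_mul, F.mv_xE]
        obtain ⟨-, -, hrel, -, -⟩ := F.outPt_spec (F.mv (xE ^ m) ⟨r, hr⟩).2
        rw [hrel, ← ihm, ← F.mv_pow_tab F.mv_xE, ← F.mv_mul, ← F.mv_mul, ← F.mv_mul, ← F.mv_mul]
        congr 2
        rw [F.x_mul_s]
    have hj' : j = F.mv (xE ^ k) ⟨r, hr⟩ := Fin.ext (by rw [F.mv_pow_tab F.mv_xE]; exact hcyc.symm)
    rw [hj']
    exact hpow k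

theorem patFail_comm {z g : G} {Q : PTree} (hz : ∀ i, (F.mv z i).1 = Cert.col19 Q i.1) (hg : g * z = z * g) :
    ∀ (pat : List ℕ) (q v : Fin 306936),
      patFail Q pat (F.mv g q).1 (F.mv g v).1 = patFail Q pat q.1 v.1 := by
  intro pat
  induction pat with
  | nil => intro q v; rfl
  | cons b pat ih =>
    intro q v
    have hcons : ∀ q v : ℕ, patFail Q (b :: pat) q v = (Bool.rec (motive := fun _ => Bool) (Nat.beq b 1)
        (Nat.beq b 0) (Nat.beq (reflp q (Cert.col19 Q v)) (Cert.col19 Q v)) || patFail Q pat q (Cert.col19 Q v)) :=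
      fun q v => force_eq (Cert.col19 Q v) (fun v' => (Bool.rec (motive := fun _ => Bool) (Nat.beq b 1)
        (Nat.beq b 0) (Nat.beq (reflp q v') v')) || patFail Q pat q v')
    rw [hcons, hcons, ← hz, ← hz, ← F.mv_mul g z, hg, F.mv_mul]
    have hb : Nat.beq (reflp (F.mv g q).1 (F.mv g (F.mv z v)).1) (F.mv g (F.mv z v)).1 =
        Nat.beq (reflp q.1 (F.mv z v).1) (F.mv z v).1 := by
      rw [Bool.eq_iff_iff, Nat.beq_eq, Nat.beq_eq, F.commute_mv]
    rw [hb]
    exact congrArg₂ _ rfl (ih q (F.mv z v))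

/-- An element commuting with `z` that fixes a point whose cycle generates the group is trivial. -/
theorem eq_one_of_cycle {z g : G} {Q : PTree} (hz : ∀ i, (F.mv z i).1 = Cert.col19 Q i.1) (hg : g * z = z * g)
    {S ops gp : List ℕ} (hd : derOK S ops gp = true) {p : ℕ} (hp : p < 306936)
    (hS : ∀ q ∈ S, ∃ n, itTab Q n p = q) (hfix : F.mv g ⟨p, hp⟩ = ⟨p, hp⟩) : g = 1 := by
  refine F.eq_one_of_der hd fun q hq hq' => ?_
  obtain ⟨n, hn⟩ := hS q hq
  have h : (⟨q, hq'⟩ : Fin 306936) = F.mv (z ^ n) ⟨p, hp⟩ := Fin.ext (by rw [F.mv_pow_tab hz]; exact hn.symm)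
  rw [h, ← F.mv_mul, ← ((show Commute g z from hg).pow_right n).eq, F.mv_mul, hfix]

/-- The elements commuting with the element of order 29 are its powers. -/
theorem cent_xE {g : G} (hg : g * xE = xE * g) : ∃ n : ℕ, g = xE ^ n := by
  let p : Fin 306936 := ⟨xBase, by decide⟩
  obtain ⟨-, -, -, ⟨hc, -, hcyc⟩, -⟩ := F.outPt_spec (F.mv g p).2
  have hx := xc_range _ (Nat.zero_le _) hc
  simp only [xCyc, force_eq, Bool.and_eq_true, Bool.or_eq_true, List.any_eq_true, Nat.blt_eq, Nat.beq_eq] at hx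
  obtain ⟨⟨hr, -⟩, hx⟩ := hx
  generalize Cert.col19 xPos (F.mv g p).1 % 32 = k at hcyc
  generalize Cert.col19 xRep (Cert.col19 xPos (F.mv g p).1 / 32) = r at hcyc hr hx
  have hq : F.mv g p = F.mv (xE ^ k) ⟨r, hr⟩ := Fin.ext (by rw [F.mv_pow_tab F.mv_xE]; exact hcyc.symm)
  have hr0 : r = xBase := by
    rcases hx with ⟨-, hr0⟩ | hf
    · exact hr0
    · exfalso
      rw [← F.patFail_comm F.mv_xE ((Commute.refl xE).pow_left k).eq xPat ⟨r, hr⟩ ⟨r, hr⟩, ← hq,
        F.patFail_comm F.mv_xE hg] at hf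
      exact absurd hf (show ¬ patFail xTab xPat xBase xBase = true by decide +kernel)
  subst hr0
  refine ⟨k, mul_inv_eq_one.1 (F.eq_one_of_cycle F.mv_xE ?_ (p := xBase)
    (show derOK dxStart dxOps dxGp = true by decide +kernel) p.2 ?_ ?_)⟩
  · exact ((show Commute g xE from hg).mul_left ((Commute.refl xE).pow_left k).inv_left).eq
  · intro q hq'
    have h := (show ∀ q ∈ dxStart, (List.range 29).any (fun n => Nat.beq (itTab xTab n xBase) q) = true by
      decide +kernel) q hq'
    simp only [List.any_eq_true, Nat.beq_eq] at h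
    obtain ⟨n, -, hn⟩ := h
    exact ⟨n, hn⟩
  · change F.mv (g * (xE ^ k)⁻¹) p = p
    rw [F.mv_mul, hq]
    exact F.mv_inv _ _

theorem cE_comm : ∀ a < 6, cE a * sE = sE * cE a := by
  intro a ha
  have hm : ∀ u v : List ℕ, val (u ++ v) = val u * val v := fun u v => by simp [val]
  have hs : ∀ g ∈ sWord, g < 12 := by decide +kernel
  have hl : ∀ g ∈ cWords.getD a [] ++ sWord, g < 12 := fun g hg =>
    (List.mem_append.1 hg).elim (cWords_lt a g) (hs g)
  have hl' : ∀ g ∈ sWord ++ cWords.getD a [], g < 12 := fun g hg =>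
    (List.mem_append.1 hg).elim (hs g) (cWords_lt a g)
  rw [cE, sE, ← hm, ← hm]
  refine F.eq_of_genPts fun g hg hp => Fin.ext ?_
  rw [F.mv_val _ hl, F.mv_val _ hl']
  exact (show ∀ a < 6, ∀ g < 12, Cert.scanT table (cWords.getD a [] ++ sWord) (genPts.getD g 0) =
    Cert.scanT table (sWord ++ cWords.getD a []) (genPts.getD g 0) by decide +kernel) a ha g hg

/-- The elements commuting with the element of order 14. -/
theorem cent_sE {g : G} (hg : g * sE = sE * g) : ∃ a < 6, ∃ n : ℕ, g = cE a * sE ^ n := by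
  let p : Fin 306936 := ⟨sBase, by decide⟩
  obtain ⟨-, -, -, -, hc, hcyc⟩ := F.outPt_spec (F.mv g p).2
  have hx := sc_range _ (Nat.zero_le _) hc
  simp only [sCyc, force_eq, Bool.and_eq_true, Bool.or_eq_true, List.any_eq_true, Nat.blt_eq, Nat.beq_eq,
    List.mem_range] at hx
  obtain ⟨hr, hx⟩ := hx
  generalize Cert.col19 sPos (F.mv g p).1 % 16 = k at hcyc
  generalize Cert.col19 sRep (Cert.col19 sPos (F.mv g p).1 / 16) = r at hcyc hr hx
  have hq : F.mv g p = F.mv (sE ^ k) ⟨r, hr⟩ := Fin.ext (by rw [F.mv_pow_tab F.mv_sE]; exact hcyc.symm)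
  obtain ⟨a, ha, m, hm⟩ : ∃ a < 6, ∃ m, itTab sTab m (cPoint a) = r := by
    rcases hx with ⟨-, a, ha, m, -, hm⟩ | hf
    · exact ⟨a, ha, m, hm⟩
    · exfalso
      rw [← F.patFail_comm F.mv_sE ((Commute.refl sE).pow_left k).eq sPat ⟨r, hr⟩ ⟨r, hr⟩, ← hq,
        F.patFail_comm F.mv_sE hg] at hf
      exact absurd hf (show ¬ patFail sTab sPat sBase sBase = true by decide +kernel)
  have hc' : Commute (cE a) sE := F.cE_comm a ha
  refine ⟨a, ha, m + k, mul_inv_eq_one.1 (F.eq_one_of_cycle F.mv_sE ?_ (p := sBase)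
    (show derOK dsStart dsOps dsGp = true by decide +kernel) p.2 ?_ ?_)⟩
  · exact ((show Commute g sE from hg).mul_left (hc'.mul_left ((Commute.refl sE).pow_left _)).inv_left).eq
  · intro q hq'
    have h := (show ∀ q ∈ dsStart, (List.range 14).any (fun n => Nat.beq (itTab sTab n sBase) q) = true by
      decide +kernel) q hq'
    simp only [List.any_eq_true, Nat.beq_eq] at h
    obtain ⟨n, -, hn⟩ := h
    exact ⟨n, hn⟩
  · change F.mv (g * (cE a * sE ^ (m + k))⁻¹) p = p
    have he : F.mv g p = F.mv (cE a * sE ^ (m + k)) p := by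
      rw [hq, pow_add, ← mul_assoc, F.mv_mul (cE a * sE ^ m)]
      congr 1
      apply Fin.ext
      rw [F.mv_mul, F.mv_pow_tab F.mv_sE, cE, F.mv_val _ (cWords_lt a)]
      exact hm.symm
    rw [F.mv_mul, he]
    exact F.mv_inv _ _

end OFacts

end Cfsg.Agent.Lib.Fi24.Out
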