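import Cfsg.Agent.Lib.Fi24.Words
import Cfsg.Agent.Lib.Fi24.Data.Table
import Cfsg.Agent.Lib.Fi24.Out.DataA
import Cfsg.Agent.Lib.Fi24.Out.DataB
import Cfsg.Agent.Lib.Fi24.Out.DataC

/-!
The checks for the outer automorphisms of Fi24'.

A transposition is named by its point; `reflp` applies one to a point along the spanning tree.
-/

set_option autoImplicit false
set_option maxRecDepth 20000

namespace Cfsg.Agent.Lib.Fi24.Out

open Cfsg.Agent.Lib.CosetEnum (PTree force force_eq allBelow allBelow_iff)
open Cfsg.Agent.Lib

/-- The transposition of point `j` applied to point `v`; the fuel only needs to exceed the depth of `j`. -/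
noncomputable def reflAt (fuel : ℕ) : ℕ → ℕ → ℕ :=
  Nat.rec (motive := fun _ => ℕ → ℕ → ℕ) (fun _ v => Cert.tget table v 0)
    (fun _ ih j v => Bool.rec
      (force (Cert.parent tree j) fun e => force (Nat.mod e 16) fun g =>
        force (Cert.tget table v g) fun v' => force (ih (Nat.div e 16) v') fun r => Cert.tget table r g)
      (Cert.tget table v 0) (Nat.beq j 0)) fuel

/-- The transposition of point `j` applied to point `v`. -/
noncomputable def reflp (j v : ℕ) : ℕ := reflAt 306936 j v

/-- Apply a tabled element repeatedly. -/
noncomputable def itTab (Q : PTree) (n i : ℕ) : ℕ := Nat.rec i (fun _ c => force c (Cert.col19 Q)) n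

/-- The cycle of `q` does not have the pattern of commuting: `1` for a commuting pair. -/
noncomputable def patFail (Q : PTree) (pat : List ℕ) : ℕ → ℕ → Bool :=
  List.rec (motive := fun _ => ℕ → ℕ → Bool) (fun _ _ => false)
    (fun b _ ih q v => force (Cert.col19 Q v) fun v' =>
      (Bool.rec (Nat.beq b 1) (Nat.beq b 0) (Nat.beq (reflp q v') v')) || ih q v') pat

/-- The values at the listed elements of the centraliser of the second element. -/
def cWords : List (List ℕ) := [cWord0, cWord1, cWord2, cWord3, cWord4, cWord5]

/-- The starting point of the second pattern. -/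
def sBase : ℕ := 438

/-- The starting point of the first pattern. -/
def xBase : ℕ := 6056

/-- The elements agree with their tables and the cycles cover. -/
noncomputable def outPt (j : ℕ) : Bool :=
  Nat.beq (Cert.col19 xTab j) (Cert.scanT table xWord j) &&
  Nat.blt (Cert.col19 sTab j) 306936 &&
  Nat.beq (Cert.col19 sTab (Cert.col19 xTab j)) (itTab xTab 6 (Cert.col19 sTab j)) &&
  (force (Cert.col19 xPos j) fun e => Nat.blt (Nat.div e 32) 10584 &&
    Nat.ble (Cert.col19 xRep (Nat.div e 32)) j &&
    Nat.beq (itTab xTab (Nat.mod e 32) (Cert.col19 xRep (Nat.div e 32))) j) &&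
  (force (Cert.col19 sPos j) fun e => Nat.blt (Nat.div e 16) 21960 &&
    Nat.beq (itTab sTab (Nat.mod e 16) (Cert.col19 sRep (Nat.div e 16))) j)

/-- The second element at a representative follows from its values at the parent and at the letters. -/
noncomputable def sStep (r : ℕ) : Bool :=
  Nat.beq r 0 || force (Cert.parent tree r) fun e =>
    Nat.beq (Cert.col19 sTab r)
      (reflp (Cert.col19 sTab (genPts.getD (Nat.mod e 16) 0)) (Cert.col19 sTab (Nat.div e 16)))

/-- A cycle of the first element. -/
noncomputable def xCyc (c : ℕ) : Bool :=
  force (Cert.col19 xRep c) fun r => Nat.blt r 306936 &&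
    sStep r &&
    ((xMatch.any (fun m => Nat.beq m c) && Nat.beq r xBase) ||
      patFail xTab xPat r r)

/-- The point at which the `a`th centralising element sends the base of the second pattern. -/
noncomputable def cPoint (a : ℕ) : ℕ := Cert.scanT table (cWords.getD a []) sBase

/-- A cycle of the second element. -/
noncomputable def sCyc (c : ℕ) : Bool :=
  force (Cert.col19 sRep c) fun r => Nat.blt r 306936 &&
    ((sMatch.any (fun m => Nat.beq m c) &&
      (List.range 6).any fun a => (List.range 14).any fun k => Nat.beq (itTab sTab k (cPoint a)) r) ||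
      patFail sTab sPat r r)

/-- The points derived from starting points by transpositions. -/
noncomputable def derive (S : List ℕ) : List ℕ → List ℕ → List ℕ :=
  List.rec (motive := fun _ => List ℕ → List ℕ) (fun l => l)
    (fun op _ ih l => Bool.rec (ih l)
      (ih (force (reflp (S.getD (Nat.mod op 32) 0) (l.getD (Nat.div op 32) 0)) fun v => l ++ [v]))
      (Nat.blt (Nat.mod op 32) S.length && Nat.blt (Nat.div op 32) l.length))

/-- The starting points are below the bound and lead to the points of the letters. -/
noncomputable def derOK (S ops gp : List ℕ) : Bool :=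
  (fun l : List ℕ =>
    S.all (fun q => Nat.blt q 306936) && Nat.beq gp.length 12 &&
      allBelow 12 fun g => Nat.beq (l.getD (gp.getD g 0) 306936) (genPts.getD g 0)) (derive S ops S)

end Cfsg.Agent.Lib.Fi24.Out
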