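import Cfsg.Agent.Lib.Fi24.Out.Defs
import Cfsg.Agent.Lib.CosetEnum.OutTwoK

/-!
The triple: an element `x` of order 29, an element `s` normalising it and an element `t` centralising `s`, with
the candidates for the images decided.
-/

set_option autoImplicit false
set_option maxRecDepth 20000
set_option Elab.async false

namespace Cfsg.Agent.Lib.Fi24.Out

open Cfsg.Agent.Lib.CosetEnum (force force_eq allBelow Trip tripOKK candOK)
open Cfsg.Agent.Lib

/-- The tables of the elements: powers of `x`, then products of centralising elements and powers of `s`. -/
noncomputable def outT (k i : ℕ) : ℕ :=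
  if k < 29 then itTab xTab k i
  else itTab sTab ((k - 29) % 14) (Cert.scanT table (cWords.getD ((k - 29) / 14) []) i)

/-- The triple. -/
def trip : Trip where
  x := 1
  s := 30
  t := 43
  ex := 11
  es := 30
  et := 67
  p := 29
  r := 5
  e := 1
  X := List.range 29
  U := List.range' 29 42
  rels := [(List.replicate 11 [0, 1, 1, 1, 2]).flatten, (List.replicate 14 [0, 0, 2]).flatten]

theorem trip_ok : tripOKK outT genPts 71 trip [1, 11] = true := by decide +kernel

theorem cand_ok : ∀ k ∈ [1, 11], trip.U.all (candOK outT genPts trip k) = true := by decide +kernel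

end Cfsg.Agent.Lib.Fi24.Out
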