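import Cfsg.Agent.Lib.Fi24.Out.Cent
import Cfsg.Agent.Lib.Fi24.Out.Trip

/-!
The outer automorphism group of Fi24' has order two.

The triple generates Fi24': it gives a product of two transpositions, whose conjugates join eight transpositions
that generate Fi24.
-/

set_option autoImplicit false
set_option maxRecDepth 20000

namespace Cfsg.Agent.Lib.Fi24.Out

open Cfsg.Agent.Lib.CosetEnum (PTree force force_eq allBelow allBelow_iff Model card_out_twoK)
open Cfsg.Agent.Lib

attribute [local irreducible] table tree small big subPos bigTree xTab sTab xRep sRep xPos sPos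

/-- The listed elements. -/
noncomputable def elG (k : ℕ) : G :=
  if k < 29 then xE ^ k else cE ((k - 29) / 14) * sE ^ ((k - 29) % 14)

theorem parity_val : ∀ w : List ℕ,
    Cfsg.Agent.S1691.parity (val w) = Multiplicative.ofAdd (1 : ZMod 2) ^ w.length := by
  intro w
  induction w with
  | nil => rfl
  | cons g w ih =>
    rw [val, List.map_cons, List.prod_cons, map_mul, List.length_cons, pow_succ', ← ih, val]
    congr 1

theorem parity_even {w : List ℕ} (h : w.length % 2 = 0) : Cfsg.Agent.S1691.parity (val w) = 1 := by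
  obtain ⟨n, hn⟩ := Nat.dvd_of_mod_eq_zero h
  rw [parity_val, hn, pow_mul]
  have : Multiplicative.ofAdd (1 : ZMod 2) ^ 2 = 1 := by decide
  rw [this, one_pow]

theorem parity_odd {w : List ℕ} (h : w.length % 2 = 1) : Cfsg.Agent.S1691.parity (val w) ≠ 1 := by
  rw [parity_val, ← Nat.div_add_mod w.length 2, h, pow_add, pow_mul, pow_one]
  have : Multiplicative.ofAdd (1 : ZMod 2) ^ 2 = 1 := by decide
  rw [this, one_pow, one_mul]
  decide

theorem mem_derived_iff (a : G) : a ∈ commutator G ↔ Cfsg.Agent.S1691.parity a = 1 := by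
  have h1 : ∀ b ∈ commutator G, Cfsg.Agent.S1691.parity b = 1 := by
    have h : commutator G ≤ (Cfsg.Agent.S1691.parity).ker := by
      rw [commutator_def, Subgroup.commutator_le]
      intro u _ v _
      rw [MonoidHom.mem_ker, map_commutatorElement, commutatorElement_eq_one_iff_mul_comm]
      exact mul_comm _ _
    exact fun b hb => h hb
  refine ⟨h1 a, fun ha => ?_⟩
  have hl : xg 0 ∉ commutator G := fun h => parity_odd (w := [0]) rfl (by simpa [val] using h1 _ h)
  by_contra hc
  have hm : a * xg 0 ∈ commutator G :=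
    (Subgroup.mul_mem_iff_of_index_two Cfsg.Agent.S1691.result).2 ⟨fun h => absurd h hc, fun h => absurd h hl⟩
  have := h1 _ hm
  rw [map_mul, ha, one_mul] at this
  exact parity_odd (w := [0]) rfl (by simpa [val] using this)

theorem parity_pow_eq_one {z : G} (hz : Cfsg.Agent.S1691.parity z = 1) (n : ℕ) :
    Cfsg.Agent.S1691.parity (z ^ n) = 1 := by
  rw [map_pow, hz, one_pow]

theorem parity_xE : Cfsg.Agent.S1691.parity xE = 1 := parity_even (by decide +kernel)

theorem parity_sE : Cfsg.Agent.S1691.parity sE = 1 := parity_even (by decide +kernel)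

theorem parity_cE : ∀ a < 6, (Cfsg.Agent.S1691.parity (cE a) = 1 ↔ a < 3) := by
  intro a ha
  have h := (show ∀ a < 6, (cWords.getD a []).length % 2 = if a < 3 then 0 else 1 by decide +kernel) a ha
  by_cases h3 : a < 3
  · rw [if_pos h3] at h
    exact iff_of_true (parity_even h) h3
  · rw [if_neg h3] at h
    exact iff_of_false (parity_odd h) h3

theorem elG_mem {k : ℕ} (hk : k < 71) : elG k ∈ commutator G := by
  rw [mem_derived_iff, elG]
  split_ifs with h
  · exact parity_pow_eq_one parity_xE k
  · rw [map_mul, parity_pow_eq_one parity_sE, (parity_cE _ (by omega)).2 (by omega), one_mul]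

/-- The listed elements of the derived subgroup. -/
noncomputable def elS (k : ℕ) : ↥(commutator G) :=
  if hk : k < 71 then ⟨elG k, elG_mem hk⟩ else 1

namespace OFacts

variable (F : OFacts)
include F

theorem mv_elG {k : ℕ} (i : Fin 306936) : (F.mv (elG k) i).1 = outT k i.1 := by
  rw [elG, outT]
  split_ifs with h
  · exact F.mv_pow_tab F.mv_xE k i
  · rw [F.mv_mul, F.mv_pow_tab F.mv_sE, cE, F.mv_val _ (cWords_lt _)]

theorem sE_pow : sE ^ 14 = 1 := by
  refine F.eq_of_genPts fun g hg hp => Fin.ext ?_
  rw [F.mv_pow_tab F.mv_sE, F.mv_one]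
  exact (show ∀ g < 12, itTab sTab 14 (genPts.getD g 0) = genPts.getD g 0 by decide +kernel) g hg

theorem xE_pow : xE ^ 29 = 1 := by
  refine F.eq_of_genPts fun g hg hp => Fin.ext ?_
  rw [F.mv_pow_tab F.mv_xE, F.mv_one]
  exact (show ∀ g < 12, itTab xTab 29 (genPts.getD g 0) = genPts.getD g 0 by decide +kernel) g hg

/-- The model on the points. -/
noncomputable def model : Model ↥(commutator G) 306936 where
  ρ := F.act.comp (commutator G).subtype
  inj := F.inj.comp Subtype.val_injective
  E := 71
  el := elS
  T := outT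
  hel := fun k hk i => by
    rw [elS, dif_pos hk]
    exact F.mv_elG i
  bs := genPts
  bs_lt := by decide +kernel
  base := fun g h => Subtype.ext (F.eq_one_of_fix fun j hj => h _ (by
    have hl : genPts.length = 12 := rfl
    show genPts.getD j 0 ∈ genPts
    rw [List.getD_eq_getElem _ _ (by omega)]
    exact List.getElem_mem _))

/-- The triple generates the derived subgroup. -/
theorem gen : Subgroup.closure ({elS 1, elS 30, elS 43} : Set ↥(commutator G)) = ⊤ := by
  let L : Subgroup G := (Subgroup.closure ({elS 1, elS 30, elS 43} : Set ↥(commutator G))).map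
    (commutator G).subtype
  have hLle : L ≤ commutator G := Subgroup.map_subtype_le _
  have hel : ∀ k, k < 71 → k ∈ [1, 30, 43] → elG k ∈ L := by
    intro k hk hm
    refine ⟨elS k, Subgroup.subset_closure ?_, by rw [elS, dif_pos hk]; rfl⟩
    simp only [List.mem_cons, List.not_mem_nil, or_false] at hm
    rcases hm with rfl | rfl | rfl <;> simp
  -- the operations on points
  let t : G := elG 43
  let gop : ℕ → G := fun z => [elG 1, (elG 1)⁻¹, t, t⁻¹].getD z 1
  let opT : ℕ → ℕ → ℕ := fun z i => [outT 1 i, outT 28 i, outT 43 i,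
    Cert.scanT table cWord1.reverse i].getD z i
  have hgop : ∀ z, gop z ∈ L := by
    intro z
    have ht : t ∈ L := hel 43 (by omega) (by simp)
    have hx : elG 1 ∈ L := hel 1 (by omega) (by simp)
    match z with
    | 0 => exact hx
    | 1 => exact L.inv_mem hx
    | 2 => exact ht
    | 3 => exact L.inv_mem ht
    | _ + 4 => exact L.one_mem
  have hopT : ∀ z, ∀ i : Fin 306936, (F.mv (gop z) i).1 = opT z i.1 := by
    intro z i
    match z with
    | 0 => exact F.mv_elG (k := 1) i
    | 1 =>
      show (F.mv (elG 1)⁻¹ i).1 = outT 28 i.1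
      have h28 : (elG 1)⁻¹ = elG 28 := by
        rw [elG, elG, if_pos (by omega), if_pos (by omega)]
        refine inv_eq_of_mul_eq_one_right ?_
        rw [← pow_add]; exact F.xE_pow
      rw [h28, F.mv_elG]
    | 2 => exact F.mv_elG (k := 43) i
    | 3 =>
      show (F.mv t⁻¹ i).1 = Cert.scanT table cWord1.reverse i.1
      have hlt : ∀ g ∈ cWord1, g < 12 := by decide +kernel
      have ht : t = val cWord1 := by
        show elG 43 = _
        rw [elG, if_neg (by omega), pow_zero, mul_one]; rfl
      rw [ht, show (val cWord1)⁻¹ = val cWord1.reverse from (prod_reverse hlt).symm,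
        F.mv_val _ fun g hg => hlt g (List.mem_reverse.1 hg)]
    | _ + 4 => exact congrArg Fin.val (F.mv_one i)
  let scanO : List ℕ → ℕ → ℕ := fun ops i => ops.foldl (fun v z => opT z v) i
  have hprod : ∀ ops : List ℕ, (ops.map gop).prod ∈ L ∧
      ∀ i : Fin 306936, (F.mv (ops.map gop).prod i).1 = scanO ops i.1 := by
    intro ops
    induction ops with
    | nil => exact ⟨L.one_mem, fun i => congrArg Fin.val (F.mv_one i)⟩
    | cons z ops ih =>
      refine ⟨L.mul_mem (hgop z) ih.1, fun i => ?_⟩
      rw [List.map_cons, List.prod_cons, F.mv_mul, ih.2, hopT]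
      rfl
  -- the base edge
  have hbase : tau 27954 * tau 184283 ∈ L := by
    obtain ⟨hy, hys⟩ := hprod (List.replicate 7 [3, 1, 2, 0, 0]).flatten
    rw [show tau 27954 * tau 184283 = _ from ?_]
    · exact hy
    refine F.eq_of_genPts fun g hg hp => Fin.ext ?_
    rw [hys, F.mv_mul, ← F.reflp_eq ⟨184283, by omega⟩, ← F.reflp_eq ⟨27954, by omega⟩]
    exact ((show ∀ g < 12, scanO (List.replicate 7 [3, 1, 2, 0, 0]).flatten (genPts.getD g 0) =
      reflp 184283 (reflp 27954 (genPts.getD g 0)) by decide +kernel) g hg).symm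
  have hedge : ∀ ops : List ℕ, ∀ a b : ℕ, scanO ops 27954 = a → scanO ops 184283 = b →
      tau a * tau b ∈ L := by
    intro ops a b ha hb
    obtain ⟨hz, hzs⟩ := hprod ops
    have h1 := F.tau_mv (ops.map gop).prod ⟨27954, by omega⟩
    have h2 := F.tau_mv (ops.map gop).prod ⟨184283, by omega⟩
    rw [hzs] at h1 h2
    change _ * tau 27954 * _ = tau (scanO ops 27954) at h1
    change _ * tau 184283 * _ = tau (scanO ops 184283) at h2
    rw [← ha, ← hb, ← h1, ← h2]
    have h := L.mul_mem (L.mul_mem (L.inv_mem hz) hbase) hz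
    convert h using 1
    group
  have e0 := hedge (edgeOps.getD 0 []) 127306 29688 (by decide +kernel) (by decide +kernel)
  have e1 := hedge (edgeOps.getD 1 []) 127306 104021 (by decide +kernel) (by decide +kernel)
  have e2 := hedge (edgeOps.getD 2 []) 286052 127306 (by decide +kernel) (by decide +kernel)
  have e3 := hedge (edgeOps.getD 3 []) 127306 57168 (by decide +kernel) (by decide +kernel)
  have e4 := hedge (edgeOps.getD 4 []) 88868 127306 (by decide +kernel) (by decide +kernel)
  have e5 := hedge (edgeOps.getD 5 []) 286052 53261 (by decide +kernel) (by decide +kernel)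
  have e6 := hedge (edgeOps.getD 6 []) 222763 57168 (by decide +kernel) (by decide +kernel)
  have sq : ∀ a, tau a * tau a = 1 := by
    intro a
    rw [tau]
    calc (Cert.rep xg tree a)⁻¹ * xg 0 * Cert.rep xg tree a * ((Cert.rep xg tree a)⁻¹ * xg 0 * Cert.rep xg tree a)
        = (Cert.rep xg tree a)⁻¹ * (xg 0 * xg 0) * Cert.rep xg tree a := by group
      _ = 1 := by rw [xg_sq (by omega)]; group
  have tinv : ∀ a, (tau a)⁻¹ = tau a := fun a => inv_eq_of_mul_eq_one_right (sq a)
  have hS : deStart = [127306, 29688, 104021, 286052, 57168, 88868, 53261, 222763] := rfl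
  have h0 : ∀ q ∈ deStart, tau 127306 * tau q ∈ L := by
    have hrev : ∀ a b, tau a * tau b ∈ L → tau b * tau a ∈ L := fun a b h => by
      have := L.inv_mem h
      rwa [mul_inv_rev, tinv, tinv] at this
    have htr : ∀ a b c, tau a * tau b ∈ L → tau b * tau c ∈ L → tau a * tau c ∈ L := fun a b c h h' => by
      have := L.mul_mem h h'
      rwa [mul_assoc, ← mul_assoc (tau b), sq, one_mul] at this
    intro q hq
    simp only [hS, List.mem_cons, List.not_mem_nil, or_false] at hq
    rcases hq with rfl | rfl | rfl | rfl | rfl | rfl | rfl | rfl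
    · rw [sq]; exact L.one_mem
    · exact e0
    · exact e1
    · exact hrev _ _ e2
    · exact e3
    · exact hrev _ _ e4
    · exact htr _ _ _ (hrev _ _ e2) e5
    · exact htr _ _ _ e3 (hrev _ _ e6)
  let K : Subgroup G := Subgroup.closure {x | ∃ q ∈ deStart, tau q = x}
  have hd : derOK deStart deOps deGp = true := by decide +kernel
  have hK : K = ⊤ := by
    simp only [derOK, Bool.and_eq_true, List.all_eq_true, Nat.blt_eq, Nat.beq_eq, allBelow_iff] at hd
    obtain ⟨⟨hSlt, -⟩, hgp⟩ := hd
    have hder : ∀ (ops l : List ℕ), (∀ q ∈ l, q < 306936 ∧ tau q ∈ K) →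
        ∀ q ∈ derive deStart ops l, q < 306936 ∧ tau q ∈ K := by
      intro ops
      induction ops with
      | nil => intro l hl; exact hl
      | cons op ops ih =>
        intro l hl
        rw [show derive deStart (op :: ops) l = Bool.rec (motive := fun _ => List ℕ) (derive deStart ops l)
          (derive deStart ops (force (reflp (deStart.getD (Nat.mod op 32) 0) (l.getD (Nat.div op 32) 0))
            fun v => l ++ [v]))
          (Nat.blt (Nat.mod op 32) deStart.length && Nat.blt (Nat.div op 32) l.length) from rfl]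
        cases hb : (Nat.blt (Nat.mod op 32) deStart.length && Nat.blt (Nat.div op 32) l.length)
        · exact ih l hl
        · refine ih _ ?_
          simp only [Bool.and_eq_true, Nat.blt_eq] at hb
          rw [force_eq]
          intro q hq
          rcases List.mem_append.1 hq with hq | hq
          · exact hl q hq
          rw [List.mem_singleton] at hq
          subst hq
          rw [List.getD_eq_getElem _ _ hb.1, List.getD_eq_getElem _ _ hb.2]
          have hp : deStart[Nat.mod op 32] < 306936 ∧ tau deStart[Nat.mod op 32] ∈ K :=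
            ⟨hSlt _ (List.getElem_mem hb.1), Subgroup.subset_closure ⟨_, List.getElem_mem hb.1, rfl⟩⟩
          obtain ⟨hv, hvK⟩ := hl _ (List.getElem_mem hb.2)
          have hr := F.reflp_eq ⟨_, hp.1⟩ ⟨_, hv⟩
          dsimp only at hr
          rw [hr]
          refine ⟨Fin.is_lt _, ?_⟩
          rw [← F.tau_mv]
          exact K.mul_mem (K.mul_mem (K.inv_mem hp.2) hvK) hp.2
    rw [eq_top_iff, ← F.closure_genPts, Subgroup.closure_le]
    rintro _ ⟨g, hg, rfl⟩
    have h := hgp g hg
    rcases Nat.lt_or_ge (deGp.getD g 0) (derive deStart deOps deStart).length with hlt | hge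
    · rw [List.getD_eq_getElem _ _ hlt] at h
      rw [← h]
      exact (hder deOps deStart (fun q hq => ⟨hSlt q hq, Subgroup.subset_closure ⟨q, hq, rfl⟩⟩) _
        (List.getElem_mem hlt)).2
    · rw [List.getD_eq_default _ _ hge] at h
      have := (F.genPts_tau g hg).1
      omega
  have hcov : ∀ a : G, a ∈ L ∨ a * tau 127306 ∈ L := by
    intro a
    have ha : a ∈ K := hK ▸ Subgroup.mem_top a
    induction ha using Subgroup.closure_induction_right with
    | one => exact Or.inl L.one_mem
    | mul_right u _ y hy ih =>
      obtain ⟨q, hq, rfl⟩ := hy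
      have hq' := h0 q hq
      have hq'' : tau q * tau 127306 ∈ L := by
        have := L.inv_mem hq'
        rwa [mul_inv_rev, tinv, tinv] at this
      rcases ih with h | h
      · right
        rw [mul_assoc]; exact L.mul_mem h hq''
      · left
        have := L.mul_mem h hq'
        rwa [mul_assoc, ← mul_assoc (tau 127306), sq, one_mul] at this
    | mul_inv_cancel u _ y hy ih =>
      obtain ⟨q, hq, rfl⟩ := hy
      have hq' := h0 q hq
      have hq'' : tau q * tau 127306 ∈ L := by
        have := L.inv_mem hq'
        rwa [mul_inv_rev, tinv, tinv] at this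
      rw [tinv]
      rcases ih with h | h
      · right
        rw [mul_assoc]; exact L.mul_mem h hq''
      · left
        have := L.mul_mem h hq'
        rwa [mul_assoc, ← mul_assoc (tau 127306), sq, one_mul] at this
  have hnot : tau 127306 ∉ commutator G := by
    intro h
    rw [mem_derived_iff, tau, map_mul, map_mul, map_inv, mul_comm (_⁻¹) _, inv_mul_cancel_right] at h
    exact parity_odd (w := [0]) rfl (by simpa [val] using h)
  rw [eq_top_iff]
  intro a _
  rcases hcov a.1 with h | h
  · obtain ⟨b, hb, hba⟩ := h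
    exact (Subtype.ext hba : b = a) ▸ hb
  · exfalso
    exact hnot ((mul_mem_cancel_left a.2).1 (hLle h))

/-- The outer automorphism group has order two. -/
theorem card_out (hfin : Finite G) (hcard : Nat.card ↥(commutator G) = 1255205709190661721292800) :
    Nat.card (Cfsg.Out ↥(commutator G)) = 2 := by
  have := hfin
  have hu : ∀ g ∈ oWord, g < 12 := by decide +kernel
  have hcomm : ∀ k : ℕ, ∀ m : ℕ, k < 71 → m < 71 →
      (∀ g < 12, outT k (Cert.scanT table oWord (genPts.getD g 0)) =
        Cert.scanT table oWord (outT m (genPts.getD g 0))) →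
      val oWord * elG k * (val oWord)⁻¹ = elG m := by
    intro k m _ _ h
    rw [mul_inv_eq_iff_eq_mul]
    refine F.eq_of_genPts fun g hg hp => Fin.ext ?_
    rw [F.mv_mul, F.mv_elG, F.mv_mul, F.mv_val _ hu, F.mv_val _ hu, F.mv_elG]
    exact h g hg
  refine card_out_twoK F.model trip [1, 11] trip_ok cand_ok (by norm_num [trip])
    (by rw [hcard]; norm_num [trip]) F.gen ?_ ?_ (MulAut.conjNormal (val oWord)) ?_ ?_ ?_
  · intro g hg
    have hg' : (g : G) * xE = xE * g := by
      have h := congrArg Subtype.val hg
      change (g : G) * (elS 1 : G) = (elS 1 : G) * g at h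
      rwa [elS, dif_pos (by omega), show ((⟨elG 1, elG_mem (by omega)⟩ : ↥(commutator G)) : G) = xE from
        pow_one xE] at h
    obtain ⟨n, hn⟩ := F.cent_xE hg'
    refine ⟨n % 29, List.mem_range.2 (Nat.mod_lt _ (by omega)), Subtype.ext ?_⟩
    show (g : G) = (elS (n % 29) : G)
    rw [elS, dif_pos (by omega)]
    show (g : G) = elG (n % 29)
    rw [elG, if_pos (Nat.mod_lt _ (by omega)), hn]
    conv_lhs => rw [← Nat.div_add_mod n 29, pow_add, pow_mul, F.xE_pow, one_pow, one_mul]
  · intro g hg
    have hs30 : elG 30 = sE := by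
      rw [elG, if_neg (by omega), show cE ((30 - 29) / 14) = 1 from rfl, one_mul]
      exact pow_one sE
    have hg' : (g : G) * sE = sE * g := by
      have h := congrArg Subtype.val hg
      change (g : G) * (elS 30 : G) = (elS 30 : G) * g at h
      rwa [elS, dif_pos (by omega), show ((⟨elG 30, elG_mem (by omega)⟩ : ↥(commutator G)) : G) = sE from hs30] at h
    obtain ⟨a, ha, n, hn⟩ := F.cent_sE hg'
    have h3 : a < 3 := by
      rw [← parity_cE a ha]
      have h := (mem_derived_iff _).1 g.2
      rwa [hn, map_mul, parity_pow_eq_one parity_sE, mul_one] at h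
    refine ⟨29 + (14 * a + n % 14), ?_, Subtype.ext ?_⟩
    · show _ ∈ List.range' 29 42
      rw [List.mem_range'_1]; omega
    · show (g : G) = (elS _ : G)
      rw [elS, dif_pos (by omega)]
      show (g : G) = elG _
      rw [elG, if_neg (by omega), show (29 + (14 * a + n % 14) - 29) / 14 = a by omega,
        show (29 + (14 * a + n % 14) - 29) % 14 = n % 14 by omega, hn]
      conv_lhs => rw [← Nat.div_add_mod n 14, pow_add, pow_mul, F.sE_pow, one_pow, one_mul]
  · refine Subtype.ext ?_
    rw [MulAut.conjNormal_apply]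
    show val oWord * (elS 1 : G) * (val oWord)⁻¹ = (elS 11 : G)
    rw [elS, elS, dif_pos (by omega), dif_pos (by omega)]
    exact hcomm 1 11 (by omega) (by omega) (by decide +kernel)
  · refine Subtype.ext ?_
    rw [MulAut.conjNormal_apply]
    show val oWord * (elS 30 : G) * (val oWord)⁻¹ = (elS 30 : G)
    rw [elS, dif_pos (by omega)]
    exact hcomm 30 30 (by omega) (by omega) (by decide +kernel)
  · refine Subtype.ext ?_
    rw [MulAut.conjNormal_apply]
    show val oWord * (elS 43 : G) * (val oWord)⁻¹ = (elS 67 : G)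
    rw [elS, elS, dif_pos (by omega), dif_pos (by omega)]
    exact hcomm 43 67 (by omega) (by omega) (by decide +kernel)

end OFacts

theorem card_out_derived : Nat.card (Cfsg.Out ↥(commutator G)) = 2 :=
  nonempty_oFacts.elim fun F => F.card_out finite_G isFi24'_derived.2

end Cfsg.Agent.Lib.Fi24.Out
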