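import Cfsg.Agent.Lib.Fi24.Main
import Cfsg.Agent.Lib.Fi24.Out.Defs

/-!
The transpositions of the presented Fi24, named by points.

`mv a` is the action of `a` read from the left of a word, so that words are followed letter by letter.
-/

set_option autoImplicit false
set_option maxRecDepth 20000

namespace Cfsg.Agent.Lib.Fi24.Out

open Cfsg.Agent.Lib.CosetEnum (PTree force force_eq allBelow allBelow_iff)
open Cfsg.Agent.Lib

attribute [local irreducible] table tree small big subPos bigTree

/-- The faithful action with the central transposition. -/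
structure OFacts where
  /-- The action. -/
  act : G →* Equiv.Perm (Fin 306936)
  scan : ∀ l : List ℕ, (∀ g ∈ l, g < 12) → ∀ i : Fin 306936,
    ((act (l.map xg).prod)⁻¹ i).1 = Cert.scanT table l i.1
  inj : Function.Injective act
  stab : ∀ x, x ∈ H ↔ act x pt0 = pt0
  central : ∀ x ∈ H, x * xg 0 = xg 0 * x

theorem nonempty_oFacts : Nonempty OFacts := by
  obtain ⟨ρ, σ, hscan, hst, htr, -, -, hker, hl1, -, hfix, -⟩ := hFacts
  have hl : xg 0 ∈ H := Subgroup.subset_closure ⟨0, by omega, by omega, rfl⟩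
  have hinj : Function.Injective ρ := by
    rw [← MonoidHom.ker_eq_bot_iff, eq_bot_iff]
    intro n hn
    have hn' : ρ n = 1 := hn
    have hnH : n ∈ H := (hst n).2 (by rw [hn', Equiv.Perm.one_apply])
    rcases (hker ⟨n, hnH⟩).1 ((hfix _).2 fun m => by
      rw [show ρ (⟨n, hnH⟩ : H).1 = 1 from hn', Equiv.Perm.one_apply]) with h | h
    · exact h
    · exfalso
      change n = xg 0 at h
      have h' := hscan [0] (by simp) ⟨1, by omega⟩
      rw [show (([0] : List ℕ).map xg).prod = n by simp [h], hn', inv_one, Equiv.Perm.one_apply] at h'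
      exact (show Cert.scanT table [0] 1 ≠ 1 by decide +kernel) h'.symm
  refine ⟨⟨ρ, hscan, hinj, hst, fun x hx => ?_⟩⟩
  have h1 : σ ((⟨x, hx⟩ : H) * ⟨xg 0, hl⟩ * (⟨x, hx⟩ : H)⁻¹) = 1 := by
    rw [map_mul, map_mul, (hker ⟨xg 0, hl⟩).2 (Or.inr rfl), mul_one, map_inv, mul_inv_cancel]
  rcases (hker _).1 h1 with h | h
  · exfalso
    change x * xg 0 * x⁻¹ = 1 at h
    rw [conj_eq_one_iff] at h
    exact hl1 h
  · change x * xg 0 * x⁻¹ = xg 0 at h
    exact mul_inv_eq_iff_eq_mul.1 h

/-- The element of a word. -/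
noncomputable def val (w : List ℕ) : G := (w.map xg).prod

/-- The transposition of a point. -/
noncomputable def tau (p : ℕ) : G := (Cert.rep xg tree p)⁻¹ * xg 0 * Cert.rep xg tree p

theorem tree_step {j : ℕ} (hj : j < 306936) (h0 : j ≠ 0) :
    Cert.parent tree j / 16 < j ∧ Cert.parent tree j % 16 < 12 ∧
      Cert.tget table (Cert.parent tree j / 16) (Cert.parent tree j % 16) = j := by
  have h := allBelow_iff.1 points_ok j hj
  simp only [pointOk, Bool.and_eq_true] at h
  have h := h.1.1.1.1.1.1.2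
  simp only [Cert.treeAt, force_eq, Bool.or_eq_true, Bool.and_eq_true, Nat.beq_eq, Nat.blt_eq] at h
  rcases h with h | ⟨⟨h1, h2⟩, h3⟩
  · exact absurd h h0
  · exact ⟨h1, h2, h3⟩

theorem reflAt_zero (j v : ℕ) : reflAt 0 j v = Cert.tget table v 0 := rfl

theorem reflAt_succ (n j v : ℕ) : reflAt (n + 1) j v = if j = 0 then Cert.tget table v 0 else
    Cert.tget table (reflAt n (Cert.parent tree j / 16) (Cert.tget table v (Cert.parent tree j % 16)))
      (Cert.parent tree j % 16) := by
  change Bool.rec (motive := fun _ => ℕ)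
    (force (Cert.parent tree j) fun e => force (Nat.mod e 16) fun g => force (Cert.tget table v g) fun v' =>
      force (reflAt n (Nat.div e 16) v') fun r => Cert.tget table r g)
    (Cert.tget table v 0) (Nat.beq j 0) = _
  by_cases h : j = 0
  · subst h; rfl
  · rw [if_neg h, show Nat.beq j 0 = false from by rw [← Bool.not_eq_true, Nat.beq_eq]; exact h]
    simp only [force_eq]
    rfl

namespace OFacts

variable (F : OFacts)

/-- The action read from the left of a word. -/
def mv (a : G) : Equiv.Perm (Fin 306936) := (F.act a)⁻¹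

theorem mv_mul (a b : G) (i : Fin 306936) : F.mv (a * b) i = F.mv b (F.mv a i) := by
  rw [mv, map_mul, mul_inv_rev, Equiv.Perm.mul_apply]; rfl

theorem mv_one (i : Fin 306936) : F.mv 1 i = i := by simp [mv]

theorem mv_inj {a b : G} (h : ∀ i, F.mv a i = F.mv b i) : a = b :=
  F.inj (inv_injective (Equiv.ext h))

theorem mv_inv (a : G) (i : Fin 306936) : F.mv a⁻¹ (F.mv a i) = i := by
  rw [← F.mv_mul, mul_inv_cancel, F.mv_one]

theorem mv_inv' (a : G) (i : Fin 306936) : F.mv a (F.mv a⁻¹ i) = i := by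
  rw [← F.mv_mul, inv_mul_cancel, F.mv_one]

theorem mv_val (w : List ℕ) (hw : ∀ g ∈ w, g < 12) (i : Fin 306936) :
    (F.mv (val w) i).1 = Cert.scanT table w i.1 :=
  F.scan w hw i

theorem mv_xg {g : ℕ} (hg : g < 12) (i : Fin 306936) : (F.mv (xg g) i).1 = Cert.tget table i.1 g := by
  have h := F.mv_val [g] (by simpa using hg) i
  rw [val, List.map_cons, List.map_nil, List.prod_cons, List.prod_nil, mul_one] at h
  rw [h]
  exact force_eq _ _

theorem mem_H (a : G) : a ∈ H ↔ F.mv a pt0 = pt0 := by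
  rw [F.stab, mv, Equiv.Perm.inv_def, Equiv.symm_apply_eq, eq_comm]

theorem mv_rep : ∀ p (hp : p < 306936), F.mv (Cert.rep xg tree p) pt0 = ⟨p, hp⟩ := by
  intro p
  induction p using Nat.strong_induction_on with
  | _ p ih =>
    intro hp
    rcases Nat.eq_zero_or_pos p with rfl | hpos
    · rw [Cert.rep_zero, F.mv_one]; rfl
    obtain ⟨h1, h2, h3⟩ := tree_step hp (by omega)
    rw [Cert.rep, if_pos ⟨hpos, h1⟩, F.mv_mul, ih _ h1 (by omega)]
    exact Fin.ext ((F.mv_xg h2 _).trans h3)

/-- The conjugate of a transposition belongs to the image of its point. -/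
theorem tau_mv (g : G) (p : Fin 306936) : g⁻¹ * tau p.1 * g = tau (F.mv g p).1 := by
  let r := Cert.rep xg tree p.1
  let q := Cert.rep xg tree (F.mv g p).1
  have hh : r * g * q⁻¹ ∈ H := by
    rw [F.mem_H, F.mv_mul, F.mv_mul, show F.mv r pt0 = p from F.mv_rep p.1 p.2]
    have h : F.mv q pt0 = F.mv g p := F.mv_rep _ (F.mv g p).2
    rw [← h, F.mv_inv]
  have hc := F.central _ hh
  change g⁻¹ * (r⁻¹ * xg 0 * r) * g = q⁻¹ * xg 0 * q
  calc g⁻¹ * (r⁻¹ * xg 0 * r) * g = q⁻¹ * ((r * g * q⁻¹)⁻¹ * (xg 0 * (r * g * q⁻¹))) * q := by group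
    _ = _ := by rw [← hc]; group

theorem mv_tau_of (g : G) (a b : Fin 306936) :
    F.mv g (F.mv (tau a.1) b) = F.mv (tau (F.mv g a).1) (F.mv g b) := by
  rw [← F.tau_mv, F.mv_mul, F.mv_mul, F.mv_inv]

theorem reflAt_eq : ∀ n j, j ≤ n → ∀ (hj : j < 306936) (i : Fin 306936),
    reflAt n j i.1 = (F.mv (tau j) i).1 := by
  intro n
  induction n with
  | zero =>
    intro j hjn hj i
    obtain rfl : j = 0 := by omega
    rw [reflAt_zero, tau, Cert.rep_zero, inv_one, one_mul, mul_one, F.mv_xg (by omega)]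
  | succ n ih =>
    intro j hjn hj i
    rw [reflAt_succ]
    rcases Nat.eq_zero_or_pos j with rfl | hpos
    · rw [if_pos rfl, tau, Cert.rep_zero, inv_one, one_mul, mul_one, F.mv_xg (by omega)]
    obtain ⟨h1, h2, h3⟩ := tree_step hj (by omega)
    rw [if_neg (by omega)]
    have ht : tau j = xg (Cert.parent tree j % 16) * tau (Cert.parent tree j / 16) *
        xg (Cert.parent tree j % 16) := by
      rw [tau, tau, Cert.rep, if_pos ⟨hpos, h1⟩, mul_inv_rev, xg_inv h2]
      simp only [mul_assoc]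
    rw [ht, F.mv_mul, F.mv_mul, F.mv_xg h2, ← ih _ (by omega) (by omega), F.mv_xg h2]

theorem reflp_eq (a b : Fin 306936) : reflp a.1 b.1 = (F.mv (tau a.1) b).1 :=
  F.reflAt_eq 306936 a.1 a.2.le a.2 b

/-- Commuting points are preserved. -/
theorem commute_mv (g : G) (a b : Fin 306936) :
    reflp (F.mv g a).1 (F.mv g b).1 = (F.mv g b).1 ↔ reflp a.1 b.1 = b.1 := by
  rw [F.reflp_eq, F.reflp_eq, ← F.mv_tau_of, ← Fin.ext_iff, ← Fin.ext_iff, EmbeddingLike.apply_eq_iff_eq]

include F in
theorem genPts_tau : ∀ g < 12, genPts.getD g 0 < 306936 ∧ tau (genPts.getD g 0) = xg g := by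
  have hb : ∀ g < 12, genPts.getD g 0 < 306936 := by decide +kernel
  have step : ∀ a b : ℕ, a < 12 → b < 12 → a ≠ b → joined a b = true →
      Cert.scanT table [b, a] (genPts.getD a 0) = genPts.getD b 0 →
      tau (genPts.getD a 0) = xg a → tau (genPts.getD b 0) = xg b := by
    intro a b ha hb' hne hj hs ht
    have h := F.tau_mv (val [b, a]) ⟨_, hb a ha⟩
    rw [show (F.mv (val [b, a]) ⟨_, hb a ha⟩).1 = genPts.getD b 0 from
      (F.mv_val _ (by simp [ha, hb']) _).trans hs] at h
    rw [← h]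
    change (val [b, a])⁻¹ * tau (genPts.getD a 0) * val [b, a] = xg b
    rw [ht]
    simp only [val, List.map_cons, List.map_nil, List.prod_cons, List.prod_nil, mul_one]
    have h3 := xg_pow ha hb'
    rw [if_neg hne, if_pos hj, pow_succ, pow_two] at h3
    have h4 := mul_eq_one_iff_eq_inv.1 h3
    rw [mul_inv_rev, xg_inv ha, xg_inv hb'] at h4
    rw [mul_inv_rev, xg_inv ha, xg_inv hb']
    calc xg a * xg b * xg a * (xg b * xg a) = xg a * xg b * (xg a * xg b) * xg a := by simp [mul_assoc]
      _ = xg b := by rw [h4, mul_assoc, xg_sq ha, mul_one]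
  have w0 : tau (genPts.getD 0 0) = xg 0 := by
    rw [show genPts.getD 0 0 = 0 from rfl, tau, Cert.rep_zero, inv_one, one_mul, mul_one]
  have w1 := step 0 1 (by omega) (by omega) (by omega) rfl (by decide +kernel) w0
  have w2 := step 1 2 (by omega) (by omega) (by omega) rfl (by decide +kernel) w1
  have w3 := step 2 3 (by omega) (by omega) (by omega) rfl (by decide +kernel) w2
  have w4 := step 3 4 (by omega) (by omega) (by omega) rfl (by decide +kernel) w3
  have w5 := step 4 5 (by omega) (by omega) (by omega) rfl (by decide +kernel) w4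
  have w6 := step 5 6 (by omega) (by omega) (by omega) rfl (by decide +kernel) w5
  have w7 := step 6 7 (by omega) (by omega) (by omega) rfl (by decide +kernel) w6
  have w8 := step 7 8 (by omega) (by omega) (by omega) rfl (by decide +kernel) w7
  have w9 := step 8 9 (by omega) (by omega) (by omega) rfl (by decide +kernel) w8
  have w10 := step 5 10 (by omega) (by omega) (by omega) rfl (by decide +kernel) w5
  have w11 := step 10 11 (by omega) (by omega) (by omega) rfl (by decide +kernel) w10
  intro g hg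
  refine ⟨hb g hg, ?_⟩
  interval_cases g <;> assumption

include F in
/-- Every transposition lies in a class generated by those of the letters. -/
theorem closure_genPts : Subgroup.closure {x : G | ∃ g < 12, tau (genPts.getD g 0) = x} = ⊤ := by
  rw [eq_top_iff, ← gen_closure]
  refine Subgroup.closure_mono ?_
  rintro _ ⟨g, hg, rfl⟩
  exact ⟨g, hg, (F.genPts_tau g hg).2⟩

/-- An element fixing the points of the letters is trivial. -/
theorem eq_one_of_fix {a : G} (h : ∀ g (hg : g < 12), F.mv a ⟨_, (F.genPts_tau g hg).1⟩ = ⟨_, (F.genPts_tau g hg).1⟩) :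
    a = 1 := by
  have hc : ∀ x : G, x * a = a * x := by
    intro x
    have hx : x ∈ Subgroup.closure {x : G | ∃ g < 12, tau (genPts.getD g 0) = x} := by
      rw [F.closure_genPts]; exact Subgroup.mem_top x
    induction hx using Subgroup.closure_induction with
    | mem y hy =>
      obtain ⟨g, hg, rfl⟩ := hy
      have h1 := F.tau_mv a ⟨_, (F.genPts_tau g hg).1⟩
      rw [h g hg] at h1
      change a⁻¹ * tau (genPts.getD g 0) * a = tau (genPts.getD g 0) at h1
      conv_rhs => rw [← h1]
      group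
    | one => simp
    | mul u v _ _ hu hv => rw [mul_assoc, hv, ← mul_assoc, hu, mul_assoc]
    | inv u _ hu => exact (Commute.inv_left (show Commute u a from hu)).eq
  refine F.mv_inj fun i => ?_
  have h0 : F.mv a pt0 = pt0 := h 0 (by omega)
  rw [F.mv_one, show i = F.mv (Cert.rep xg tree i.1) pt0 from (F.mv_rep i.1 i.2).symm, ← F.mv_mul, hc,
    F.mv_mul, h0]

/-- Two elements that agree on the points of the letters are equal. -/
theorem eq_of_genPts {a b : G}
    (h : ∀ g < 12, ∀ hp : genPts.getD g 0 < 306936, F.mv a ⟨_, hp⟩ = F.mv b ⟨_, hp⟩) : a = b := by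
  refine (mul_inv_eq_one.1 (F.eq_one_of_fix fun g hg => ?_))
  rw [F.mv_mul, h g hg _, F.mv_inv]

theorem derive_fixed {a : G} {S : List ℕ}
    (hcl : ∀ p ∈ S, ∀ q : Fin 306936, F.mv a q = q → p < 306936 ∧ F.mv a ⟨reflp p q.1 % 306936, Nat.mod_lt _ (by omega)⟩ =
      ⟨reflp p q.1 % 306936, Nat.mod_lt _ (by omega)⟩) :
    ∀ (ops l : List ℕ), (∀ q ∈ l, ∃ hq : q < 306936, F.mv a ⟨q, hq⟩ = ⟨q, hq⟩) →
      ∀ q ∈ derive S ops l, ∃ hq : q < 306936, F.mv a ⟨q, hq⟩ = ⟨q, hq⟩ := by
  intro ops
  induction ops with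
  | nil => intro l hl; exact hl
  | cons op ops ih =>
    intro l hl
    rw [show derive S (op :: ops) l = Bool.rec (motive := fun _ => List ℕ) (derive S ops l)
      (derive S ops (force (reflp (S.getD (Nat.mod op 32) 0) (l.getD (Nat.div op 32) 0)) fun v => l ++ [v]))
      (Nat.blt (Nat.mod op 32) S.length && Nat.blt (Nat.div op 32) l.length) from rfl]
    cases hb : (Nat.blt (Nat.mod op 32) S.length && Nat.blt (Nat.div op 32) l.length)
    · exact ih l hl
    · refine ih _ ?_
      simp only [Bool.and_eq_true, Nat.blt_eq] at hb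
      rw [force_eq]
      intro q hq
      rcases List.mem_append.1 hq with hq | hq
      · exact hl q hq
      rw [List.mem_singleton] at hq
      subst hq
      rw [List.getD_eq_getElem _ _ hb.1, List.getD_eq_getElem _ _ hb.2]
      obtain ⟨hv, hfix⟩ := hl _ (List.getElem_mem hb.2)
      obtain ⟨hp, h2⟩ := hcl _ (List.getElem_mem hb.1) ⟨_, hv⟩ hfix
      have hlt : reflp S[Nat.mod op 32] l[Nat.div op 32] < 306936 := by
        rw [show reflp S[Nat.mod op 32] l[Nat.div op 32] = _ from F.reflp_eq ⟨_, hp⟩ ⟨_, hv⟩]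
        exact Fin.is_lt _
      exact ⟨hlt, by simpa [Nat.mod_eq_of_lt hlt] using h2⟩

/-- An element commuting with the transpositions of the starting points and fixing them is trivial. -/
theorem eq_one_of_der {a : G} {S ops gp : List ℕ} (hd : derOK S ops gp = true)
    (hfix : ∀ q ∈ S, ∀ hq : q < 306936, F.mv a ⟨q, hq⟩ = ⟨q, hq⟩) : a = 1 := by
  simp only [derOK, Bool.and_eq_true, List.all_eq_true, Nat.blt_eq, Nat.beq_eq, allBelow_iff] at hd
  obtain ⟨⟨hS, hlen⟩, hgp⟩ := hd
  have hall := F.derive_fixed (a := a) (S := S) (fun p hp q hq => ⟨hS p hp, by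
    have h := F.mv_tau_of a ⟨p, hS p hp⟩ q
    rw [hfix p hp (hS p hp), hq] at h
    have e : (⟨reflp p q.1 % 306936, Nat.mod_lt _ (by omega)⟩ : Fin 306936) = F.mv (tau p) q := by
      apply Fin.ext
      have := F.reflp_eq ⟨p, hS p hp⟩ q
      dsimp only at this ⊢
      rw [this, Nat.mod_eq_of_lt (Fin.is_lt _)]
    rw [e]
    exact h⟩) ops S (fun q hq => ⟨hS q hq, hfix q hq (hS q hq)⟩)
  refine F.eq_one_of_fix fun g hg => ?_
  have h := hgp g hg
  rcases Nat.lt_or_ge (gp.getD g 0) (derive S ops S).length with hlt | hge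
  · rw [List.getD_eq_getElem _ _ hlt] at h
    obtain ⟨hq, hqf⟩ := hall _ (List.getElem_mem hlt)
    simp only [h] at hqf
    exact hqf
  · rw [List.getD_eq_default _ _ hge] at h
    have := (F.genPts_tau g hg).1
    omega

end OFacts

end Cfsg.Agent.Lib.Fi24.Out
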